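import Cfsg.Agent.Lib.Chevalley.Twist.Pair
import Cfsg.Agent.Lib.Chevalley.Twist.RootUniq
import Cfsg.Agent.Lib.KnownB.Aut.Base
import Cfsg.Agent.Lib.BNPair.Parabolic

/-!
Automorphisms of a group of fixed points: normalisation on the fixed parts of `U` and `V`.
-/

set_option autoImplicit false

namespace CfsgLib.KnownB.AutTw

open CfsgLib.Chevalley CfsgLib.Chevalley.Tbl CfsgLib.Chevalley.Tbl.Twist

variable {T : Tbl} {F : Type*} [Field F] (S : Twist T F)

/-- The fixed part of `U`. -/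
noncomputable abbrev U1 : Subgroup ↥S.fix := (T.datum.posUnipotent F).subgroupOf S.fix

/-- The fixed part of `V`. -/
noncomputable abbrev V1 : Subgroup ↥S.fix := (T.datum.negUnipotent F).subgroupOf S.fix

/-- The fixed part of `B`. -/
noncomputable abbrev B1 : Subgroup ↥S.fix := (T.datum.borelSubgroup F).subgroupOf S.fix

/-- The automorphism fixes both unipotent subgroups. -/
structure NormTw (θ : MulAut ↥S.fix) : Prop where
  mapU : (U1 S).map θ.toMonoidHom = U1 S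
  mapV : (V1 S).map θ.toMonoidHom = V1 S

variable {S}

theorem mem_U1 {g : ↥S.fix} : g ∈ U1 S ↔ (g : GL T.I F) ∈ T.rootGen F (fun r => T.half ≤ r) := by
  rw [Subgroup.mem_subgroupOf, posUnipotent_rootGen S.valid]

theorem mem_V1 {g : ↥S.fix} : g ∈ V1 S ↔ (g : GL T.I F) ∈ T.rootGen F (fun r => r < T.half) := by
  rw [Subgroup.mem_subgroupOf, negUnipotent_rootGen S.valid]

theorem U1_le_B1 : U1 S ≤ B1 S := fun _ hg => Subgroup.mem_sup_left hg

theorem B1_inf_V1 : B1 S ⊓ V1 S = ⊥ := by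
  rw [eq_bot_iff]
  rintro g ⟨h1, h2⟩
  refine Subgroup.mem_bot.mpr (Subtype.ext ?_)
  exact Subgroup.mem_bot.mp ((borel_inf_neg (T := T) (F := F) S.valid).le ⟨h1, h2⟩)

theorem U1_inf_V1 : U1 S ⊓ V1 S = ⊥ :=
  eq_bot_iff.mpr ((inf_le_inf_right _ U1_le_B1).trans B1_inf_V1.le)

theorem B1_le_normalizer : B1 S ≤ Subgroup.normalizer (U1 S : Set ↥S.fix) := by
  intro g hg
  have hn : T.datum.borelSubgroup F ≤ Subgroup.normalizer (T.datum.posUnipotent F : Set (GL T.I F)) := by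
    refine sup_le Subgroup.le_normalizer ?_
    rw [posUnipotent_rootGen S.valid]; exact diag_le_normalizer S.valid _
  have := Subgroup.mem_normalizer_iff.mp (hn hg)
  rw [Subgroup.mem_normalizer_iff]
  exact fun x => this x

theorem diag_normalizes_V1 {h : ↥S.fix} (hh : (h : GL T.I F) ∈ T.datum.diagonalSubgroup F) :
    h ∈ Subgroup.normalizer (V1 S : Set ↥S.fix) := by
  have : (h : GL T.I F) ∈ Subgroup.normalizer (T.datum.negUnipotent F : Set (GL T.I F)) := by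
    rw [negUnipotent_rootGen S.valid]; exact diag_le_normalizer S.valid _ hh
  rw [Subgroup.mem_normalizer_iff]
  exact fun x => Subgroup.mem_normalizer_iff.mp this x

theorem NormTw.symm {θ : MulAut ↥S.fix} (h : NormTw S θ) : NormTw S θ⁻¹ := by
  constructor
  · conv_lhs => rw [← h.mapU]
    rw [Subgroup.map_map]
    convert Subgroup.map_id _
    ext x
    simp
  · conv_lhs => rw [← h.mapV]
    rw [Subgroup.map_map]
    convert Subgroup.map_id _
    ext x
    simp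

variable {O : Orbits T S.valid S.ρ} (hV : S.VHyp O)
include hV

theorem pair_B_eq : (pair hV).B = B1 S := by
  rw [pair_B]
  ext g
  simp only [Subgroup.mem_subgroupOf, Subgroup.mem_inf, g.2, and_true]

/-- An element of `W₁` keeping every orbit positive is trivial; otherwise some orbit element moves. -/
theorem exists_moved {w : Equiv.Perm (Fin T.n)} (hw : w ∈ S.W1) (hne : w ≠ 1) :
    ∃ q ∈ S.fix, q ≠ 1 ∧ q ∈ T.rootGen F (T.negSet w) := by
  obtain ⟨i, hi⟩ : ∃ i : Fin T.rank, (w (T.simpF S.valid i)).val < T.half := by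
    by_contra h
    push Not at h
    exact hne (eq_one_of_pos S.valid hw.1 h)
  obtain ⟨q, hqf, hq1, hq⟩ := exists_pos_elt hV (O.orb i)
  exact ⟨q, hqf, hq1, rootGen_mono (fun r hr ⟨_, hp, hn⟩ => ⟨hr, hp,
    S.negSet_of_neg O hw rfl hi (r := ⟨r, hr⟩) hp hn⟩) hq⟩

theorem normalizer_U1 : Subgroup.normalizer (U1 S : Set ↥S.fix) = B1 S := by
  refine le_antisymm (fun g hg => ?_) B1_le_normalizer
  obtain ⟨a, ha, haf, n, hn, hnf, w, hw, hm, u, hu, huf, e⟩ := S.fix_canonical g.2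
  let aa : ↥S.fix := ⟨a, haf⟩
  let nn : ↥S.fix := ⟨n, hnf⟩
  let uu : ↥S.fix := ⟨u, huf⟩
  have hu' : u ∈ T.rootGen F (fun r => T.half ≤ r) := rootGen_mono (fun r _ ⟨_, hp, _⟩ => hp) hu
  have hge : g = aa * nn * uu := Subtype.ext e
  have hnN : nn ∈ Subgroup.normalizer (U1 S : Set ↥S.fix) := by
    have := mul_mem (mul_mem (inv_mem (B1_le_normalizer (U1_le_B1 (mem_U1.mpr (show (aa : GL T.I F) ∈ _ from ha))))) hg)
      (inv_mem (B1_le_normalizer (U1_le_B1 (mem_U1.mpr (show (uu : GL T.I F) ∈ _ from hu')))))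
    rwa [hge, show aa⁻¹ * (aa * nn * uu) * uu⁻¹ = nn by group] at this
  have hw1 : w = 1 := by
    by_contra hne
    obtain ⟨q, hqf, hq1, hq⟩ := exists_moved hV hw hne
    let qq : ↥S.fix := ⟨q, hqf⟩
    have h1 : nn * qq * nn⁻¹ ∈ U1 S := (Subgroup.mem_normalizer_iff.mp hnN qq).mp
      (mem_U1.mpr (rootGen_mono (fun r _ ⟨_, hp, _⟩ => hp) hq))
    have h2 : nn * qq * nn⁻¹ ∈ V1 S := mem_V1.mpr (conj_mem_rootGen S.valid hm (fun r ⟨_, _, h⟩ => h) hq)
    have h3 : nn * qq * nn⁻¹ = 1 := Subgroup.mem_bot.mp (U1_inf_V1.le (Subgroup.mem_inf.mpr ⟨h1, h2⟩))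
    exact hq1 (congrArg Subtype.val (conj_eq_one_iff.mp h3))
  subst hw1
  rw [Subgroup.mem_subgroupOf, e]
  exact mul_mem (mul_mem (Subgroup.mem_sup_left ((posUnipotent_rootGen (F := F) S.valid).symm ▸ ha))
    (Subgroup.mem_sup_right (mem_diag_of_mono_one S.valid hn hm)))
    (Subgroup.mem_sup_left ((posUnipotent_rootGen (F := F) S.valid).symm ▸ hu'))

theorem NormTw.mapB {θ : MulAut ↥S.fix} (h : NormTw S θ) : (B1 S).map θ.toMonoidHom = B1 S := by
  rw [← normalizer_U1 hV, Subgroup.map_equiv_normalizer_eq, h.mapU]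

theorem exists_n1 : ∃ n : ↥S.fix, ∃ w ∈ S.W1, T.Mono (n : GL T.I F) w ∧
    (n : GL T.I F) ∈ T.datum.monomialSubgroup F ∧ (∀ s : Fin T.n, T.half ≤ s.val ↔ (w s).val < T.half) ∧
    (U1 S).map (MulAut.conj n).toMonoidHom = V1 S ∧
    (V1 S).map (MulAut.conj n).toMonoidHom = U1 S := by
  obtain ⟨w, hw, hneg⟩ := Gen.exists_longest (S.fullGen O hV)
  obtain ⟨n, hnf, hn, hm⟩ := ((S.fullGen O hV).main w hw).1
  have hiff : ∀ s : Fin T.n, T.half ≤ s.val ↔ (w s).val < T.half := fun s => ⟨hneg s, fun h => by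
    by_contra hlt
    push Not at hlt
    have h1 := hneg (T.negF s) (le_negF hlt)
    rw [hm.negEq] at h1
    exact absurd h1 (not_lt.mpr (le_negF h))⟩
  refine ⟨⟨n, hnf⟩, w, hw, hm, hn, hiff, ?_, ?_⟩
  · ext x
    rw [Subgroup.mem_map]
    constructor
    · rintro ⟨y, hy, rfl⟩
      exact mem_V1.mpr (conj_mem_rootGen S.valid hm (fun r h => (hiff r).mp h) (mem_U1.mp hy))
    · intro hx
      refine ⟨(⟨n, hnf⟩ : ↥S.fix)⁻¹ * x * ⟨n, hnf⟩, mem_U1.mpr ?_, by simp [mul_assoc]⟩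
      have h := conj_mem_rootGen S.valid hm.inv (Q := fun r => T.half ≤ r) (fun r hr => by
        refine (hiff _).mpr ?_
        rw [Equiv.Perm.inv_def, Equiv.apply_symm_apply]; exact hr) (mem_V1.mp hx)
      rwa [inv_inv] at h
  · ext x
    rw [Subgroup.mem_map]
    constructor
    · rintro ⟨y, hy, rfl⟩
      refine mem_U1.mpr (conj_mem_rootGen S.valid hm (fun r h => ?_) (mem_V1.mp hy))
      by_contra h'
      exact absurd ((hiff r).mpr (not_le.mp h')) (not_le.mpr h)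
    · intro hx
      refine ⟨(⟨n, hnf⟩ : ↥S.fix)⁻¹ * x * ⟨n, hnf⟩, mem_V1.mpr ?_, by simp [mul_assoc]⟩
      have h := conj_mem_rootGen S.valid hm.inv (Q := fun r => r < T.half) (fun r hr => by
        by_contra h'
        have := (hiff _).mp (not_lt.mp h')
        rw [Equiv.Perm.inv_def, Equiv.apply_symm_apply] at this
        exact absurd this (not_lt.mpr hr)) (mem_U1.mp hx)
      rwa [inv_inv] at h

/-- The fixed part of `U` is a Sylow subgroup, once the fixed part of `H` has order prime to `p`. -/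
theorem exists_sylow [Finite F] (p : ℕ) [Fact p.Prime] [CharP F p] :
    ∃ P : Sylow p ↥S.fix, (P : Subgroup ↥S.fix) = U1 S := by
  haveI := Fintype.ofFinite F
  have hUp : IsPGroup p ↥(U1 S) := by
    have hbig : IsPGroup p ↥(CfsgLib.KnownB.Aut.UU T F) := CfsgLib.KnownB.Steinberg.isPGroup_pos S.valid S.comm p
    rintro ⟨⟨g, hgf⟩, hg⟩
    obtain ⟨k, hk⟩ := hbig ⟨⟨g, hgf.1⟩, hg⟩
    refine ⟨k, Subtype.ext (Subtype.ext ?_)⟩
    exact congrArg (fun x : ↥(CfsgLib.KnownB.Aut.UU T F) => ((x.1 : ↥(T.datum.group F)) : GL T.I F)) hk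
  obtain ⟨P, hP⟩ := hUp.exists_le_sylow
  refine ⟨P, ?_⟩
  by_contra hne
  have hlt : U1 S < (P : Subgroup ↥S.fix) := lt_of_le_of_ne hP (Ne.symm hne)
  have hnil : Group.IsNilpotent ↥(P : Subgroup ↥S.fix) := P.isPGroup'.isNilpotent
  let H : Subgroup ↥(P : Subgroup ↥S.fix) := (U1 S).subgroupOf P
  have hH : H < ⊤ := by
    refine lt_top_iff_ne_top.mpr fun e => hlt.not_ge fun x hx => ?_
    have : (⟨x, hx⟩ : ↥(P : Subgroup ↥S.fix)) ∈ H := e ▸ Subgroup.mem_top _
    exact this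
  obtain ⟨x, hxN, hxH⟩ := SetLike.exists_of_lt (Group.normalizerCondition_of_isNilpotent H hH)
  have hxB : (x : ↥S.fix) ∈ B1 S := by
    rw [← normalizer_U1 hV, Subgroup.mem_normalizer_iff]
    intro z
    constructor
    · intro hz
      exact (Subgroup.mem_normalizer_iff.mp hxN ⟨z, hP hz⟩).mp hz
    · intro hz
      have hzP : z ∈ (P : Subgroup ↥S.fix) := by
        have := mul_mem (mul_mem (inv_mem x.2) (hP hz)) x.2
        simpa [mul_assoc] using this
      exact (Subgroup.mem_normalizer_iff.mp hxN ⟨z, hzP⟩).mpr hz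
  obtain ⟨a, haf, ha, h, hhf, hh, e⟩ := borel_fix (S := S) hxB x.1.2
  have haU : (⟨a, haf⟩ : ↥S.fix) ∈ U1 S := mem_U1.mpr ha
  have hhP : (⟨h, hhf⟩ : ↥S.fix) ∈ (P : Subgroup ↥S.fix) := by
    have := mul_mem (inv_mem (hP haU)) x.2
    rwa [show (⟨a, haf⟩ : ↥S.fix)⁻¹ * (x : ↥S.fix) = ⟨h, hhf⟩ from Subtype.ext (by
      show a⁻¹ * ((x : ↥S.fix) : GL T.I F) = h
      simp only [Subgroup.coe_subtype] at e
      rw [e, inv_mul_cancel_left])] at this
  obtain ⟨k, hk⟩ := P.isPGroup' ⟨_, hhP⟩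
  have hk' : h ^ p ^ k = 1 := congrArg (fun z : ↥(P : Subgroup ↥S.fix) => ((z.1 : ↥S.fix) : GL T.I F)) hk
  have h1 : h = 1 := by
    obtain ⟨χ, hχ, rfl⟩ := diag_exists_char S.valid hh
    refine (dU_congr fun s hs => ?_).trans dU_one
    have hpow : ∀ m : ℕ, (T.dU χ : GL T.I F) ^ m = T.dU (χ ^ m) := by
      intro m
      induction m with
      | zero => simp [dU_one]
      | succ m ih => rw [pow_succ, ih, dU_mul, pow_succ]
    rw [hpow, ← dU_one] at hk'
    have h2 := dU_apply_inj hk' hs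
    refine Units.ext ?_
    have h3 : ((χ s : F)) ^ p ^ k = 1 := by simpa using congrArg Units.val h2
    exact iterateFrobenius_inj F p k (by rw [iterateFrobenius_def, h3]; simp)
  refine hxH ?_
  show (x : ↥S.fix) ∈ U1 S
  simp only [Subgroup.coe_subtype] at e
  rw [mem_U1, e, h1, mul_one]
  exact ha

/-- Every automorphism is normalised by an inner one. -/
theorem exists_normTw [Finite F] (θ : MulAut ↥S.fix) : ∃ x : ↥S.fix, NormTw S (MulAut.conj x * θ) := by
  haveI := Fintype.ofFinite F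
  obtain ⟨p, hp⟩ := CharP.exists F
  haveI := hp
  haveI : Fact p.Prime := ⟨CharP.char_is_prime F p⟩
  obtain ⟨P, hP⟩ := exists_sylow hV p
  obtain ⟨a, ha⟩ := MulAction.exists_smul_eq ↥S.fix (P.mapSurjective (f := θ.toMonoidHom) θ.surjective) P
  have ha' : ((U1 S).map θ.toMonoidHom).map (MulAut.conj a).toMonoidHom = U1 S := by
    have := congrArg (fun Q : Sylow p ↥S.fix => Q.toSubgroup) ha
    rw [← hP]
    exact this
  set θ₁ := MulAut.conj a * θ with hθ₁
  have hU1 : (U1 S).map θ₁.toMonoidHom = U1 S := by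
    rw [hθ₁]
    refine Eq.trans ?_ ha'
    rw [Subgroup.map_map]
    rfl
  obtain ⟨n0, w0, hw0, hm0, hn0, hiff, hUV, hVU⟩ := exists_n1 hV
  set c := θ₁ n0 with hc
  have hV1 : (V1 S).map θ₁.toMonoidHom = (U1 S).map (MulAut.conj c).toMonoidHom := by
    rw [← hUV, Aut.map_conj_normal, hU1]
  have hdisj : U1 S ⊓ (U1 S).map (MulAut.conj c).toMonoidHom = ⊥ := by
    rw [← hV1]
    nth_rw 1 [← hU1]
    rw [← Subgroup.map_inf _ _ _ θ₁.injective, U1_inf_V1, Subgroup.map_bot]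
  obtain ⟨b, hb, hbf, n, hn, hnf, w, hw, hm, u, hu, huf, e⟩ := S.fix_canonical c.2
  let bb : ↥S.fix := ⟨b, hbf⟩
  let nn : ↥S.fix := ⟨n, hnf⟩
  let uu : ↥S.fix := ⟨u, huf⟩
  have hce : c = bb * nn * uu := Subtype.ext e
  have huU : uu ∈ U1 S := mem_U1.mpr (rootGen_mono (fun r _ ⟨_, hp, _⟩ => hp) hu)
  have hbU : bb ∈ U1 S := mem_U1.mpr hb
  have hw1 : w0⁻¹ * w = 1 := by
    refine eq_one_of_pos S.valid (mul_mem (inv_mem hw0.1) hw.1) fun i => ?_
    rw [Equiv.Perm.mul_apply]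
    refine (hiff _).mpr ?_
    rw [Equiv.Perm.inv_def, Equiv.apply_symm_apply]
    by_contra hge
    push Not at hge
    obtain ⟨q, hqf, hq1, hq⟩ := exists_pos_elt hV (O.orb i)
    have hqU : (⟨q, hqf⟩ : ↥S.fix) ∈ U1 S := mem_U1.mpr (rootGen_mono (fun r _ ⟨_, hp, _⟩ => hp) hq)
    have hpos : ∀ k, O.orb k = O.orb i → T.half ≤ (w (T.simpF S.valid k)).val := fun k hk => by
      by_contra h
      exact absurd (S.neg_orbit O hw hk (not_le.mp h)) (not_lt.mpr hge)
    have h1 : nn * ⟨q, hqf⟩ * nn⁻¹ ∈ U1 S := mem_U1.mpr (conj_mem_rootGen S.valid hm (fun r ⟨_, hr1, hr2⟩ => by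
      refine half_le_of_co_nonneg S.valid (w r).2 fun c hc => ?_
      rw [WP_linear S.valid hw.1 r hc]
      refine Finset.sum_nonneg fun k _ => ?_
      by_cases hk : O.orb k = O.orb i
      · exact mul_nonneg (co_nonneg' S.valid hr1 k.2) (co_nonneg' S.valid (hpos k hk) hc)
      · rw [O.supp _ r hr1 hr2 k hk, zero_mul]) hq)
    set y := uu⁻¹ * ⟨q, hqf⟩ * uu with hy
    have hyU : y ∈ U1 S := mul_mem (mul_mem (inv_mem huU) hqU) huU
    have hx : bb * (nn * ⟨q, hqf⟩ * nn⁻¹) * bb⁻¹ ∈ U1 S ⊓ (U1 S).map (MulAut.conj c).toMonoidHom := by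
      refine Subgroup.mem_inf.mpr ⟨mul_mem (mul_mem hbU h1) (inv_mem hbU), y, hyU, ?_⟩
      show c * y * c⁻¹ = _
      rw [hce, hy]; group
    rw [hdisj, Subgroup.mem_bot, conj_eq_one_iff, conj_eq_one_iff] at hx
    exact hq1 (congrArg Subtype.val hx)
  obtain rfl : w0 = w := inv_mul_eq_one.mp hw1
  have hd : n * (n0 : GL T.I F)⁻¹ ∈ T.datum.diagonalSubgroup F := by
    refine mem_diag_of_mono_one S.valid (mul_mem hn (inv_mem hn0)) ?_
    have := hm.mul hm0.inv
    rwa [mul_inv_cancel] at this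
  have hV2 : (V1 S).map θ₁.toMonoidHom = (V1 S).map (MulAut.conj bb).toMonoidHom := by
    rw [hV1, show c = bb * (nn * n0⁻¹) * n0 * uu by rw [hce]; group, Aut.map_conj_mul, Aut.map_conj_mul,
      Aut.map_conj_mul, Aut.map_conj_of_mem (Subgroup.le_normalizer huU), hUV,
      Aut.map_conj_of_mem (diag_normalizes_V1 (h := nn * n0⁻¹) hd)]
  refine ⟨bb⁻¹ * a, ?_, ?_⟩
  · rw [map_mul, mul_assoc, ← hθ₁]
    rw [show ((MulAut.conj bb⁻¹ : MulAut ↥S.fix) * θ₁).toMonoidHom =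
      (MulAut.conj bb⁻¹).toMonoidHom.comp θ₁.toMonoidHom from rfl, ← Subgroup.map_map, hU1,
      Aut.map_conj_of_mem (B1_le_normalizer (inv_mem (U1_le_B1 hbU)))]
  · rw [map_mul, mul_assoc, ← hθ₁]
    rw [show ((MulAut.conj bb⁻¹ : MulAut ↥S.fix) * θ₁).toMonoidHom =
      (MulAut.conj bb⁻¹).toMonoidHom.comp θ₁.toMonoidHom from rfl, ← Subgroup.map_map, hV2,
      ← Aut.map_conj_mul, inv_mul_cancel, map_one]
    exact Subgroup.map_id _

/-- An inner automorphism is normalised only for an element of `H`. -/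
theorem mem_diag_of_normTw {x : ↥S.fix} (hx : NormTw S (MulAut.conj x)) :
    (x : GL T.I F) ∈ T.datum.diagonalSubgroup F := by
  have hstab : ∀ {H : Subgroup ↥S.fix}, H.map (MulAut.conj x).toMonoidHom = H →
      x ∈ Subgroup.normalizer (H : Set ↥S.fix) := by
    intro H h
    rw [Subgroup.mem_normalizer_iff]
    intro y
    constructor
    · intro hy; rw [← h]; exact ⟨y, hy, rfl⟩
    · intro hy
      obtain ⟨z, hz, e⟩ := h.ge hy
      rwa [← (MulAut.conj x).injective (show MulAut.conj x z = MulAut.conj x y from e)]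
  have hxB := hstab hx.mapU
  rw [normalizer_U1 hV] at hxB
  obtain ⟨u, huf, hu, h, hhf, hh, e⟩ := borel_fix (S := S) hxB x.2
  let uu : ↥S.fix := ⟨u, huf⟩
  let hG : ↥S.fix := ⟨h, hhf⟩
  have hxe : x = uu * hG := Subtype.ext e
  have huV : uu ∈ Subgroup.normalizer (V1 S : Set ↥S.fix) := by
    have h1 := mul_mem (hstab hx.mapV) (inv_mem (diag_normalizes_V1 (h := hG) hh))
    rwa [hxe, mul_inv_cancel_right] at h1
  obtain ⟨n, w, -, -, -, -, hUV, hVU⟩ := exists_n1 hV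
  have hy : n * uu * n⁻¹ ∈ B1 S := by
    rw [← normalizer_U1 hV, Subgroup.mem_normalizer_iff]
    intro z
    have hz : z ∈ U1 S ↔ n⁻¹ * z * n ∈ V1 S := by
      conv_lhs => rw [← hVU]
      rw [Subgroup.mem_map_equiv]
      simp
    have hz' : n * uu * n⁻¹ * z * (n * uu * n⁻¹)⁻¹ ∈ U1 S ↔
        uu * (n⁻¹ * z * n) * uu⁻¹ ∈ V1 S := by
      conv_lhs => rw [← hVU]
      rw [Subgroup.mem_map_equiv]
      simp [mul_assoc]
    rw [hz, hz']
    exact Subgroup.mem_normalizer_iff.mp huV _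
  have h0 : n * uu * n⁻¹ = 1 := Subgroup.mem_bot.mp ((B1_inf_V1 (S := S)).le
    (Subgroup.mem_inf.mpr ⟨hy, hUV.le ⟨uu, mem_U1.mpr hu, rfl⟩⟩))
  rw [hxe, conj_eq_one_iff.mp h0, one_mul]
  exact hh

end CfsgLib.KnownB.AutTw
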