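import Cfsg.Agent.Lib.KnownB.AutTw.PosPerm
import Cfsg.Agent.Lib.KnownB.Aut.Action

/-!
On each orbit an automorphism fixing the orbit subgroups is a scaled field automorphism.
-/

set_option autoImplicit false

namespace CfsgLib.KnownB.AutTw

open CfsgLib.Chevalley CfsgLib.Chevalley.Tbl CfsgLib.Chevalley.Tbl.Twist

variable {T : Tbl} {F : Type*} [Field F] {A : AbSetup T F}

variable (A) in
/-- The scalar by which the torus of one orbit acts on another. -/
def PP (j k : Fin A.o) (a : F) : F :=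
  ((List.range (A.Ss.getD j []).length).map fun e =>
    ((⇑A.D.f)^[e] a) ^ T.ca ((A.Ss.getD j []).getD e 0) ((A.L k).getD 0 0)).prod

theorem PP_mul (j k : Fin A.o) (a b : F) : PP A j k (a * b) = PP A j k a * PP A j k b := by
  simp only [PP, A.iterate_mul, mul_zpow]
  exact List.prod_map_mul

theorem PP_inv (j k : Fin A.o) (a : F) : PP A j k a⁻¹ = (PP A j k a)⁻¹ := by
  simp only [PP]
  have hit : ∀ e, (⇑A.D.f)^[e] a⁻¹ = ((⇑A.D.f)^[e] a)⁻¹ := by
    intro e
    induction e with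
    | zero => rfl
    | succ e ih => simp only [Function.iterate_succ_apply', ih, map_inv₀]
  generalize List.range (A.Ss.getD (↑j) []).length = l
  induction l with
  | nil => simp
  | cons e l ih => rw [List.map_cons, List.prod_cons, List.map_cons, List.prod_cons, ih, mul_inv, hit, inv_zpow]

theorem list_prod_dU (l : List (ℕ → Fˣ)) :
    (l.map fun χ => (T.dU χ : GL T.I F)).prod = T.dU l.prod := by
  induction l with
  | nil => exact dU_one.symm
  | cons χ l ih => rw [List.map_cons, List.prod_cons, ih, List.prod_cons, dU_mul]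

/-- `h_j(a)`. -/
noncomputable def hJ (j : Fin A.o) (a : ↥(FF A j)) : ↥A.S.fix := nJ j a * nJ j (-1)

theorem nJ_neg (j : Fin A.o) (a : ↥(FF A j)) : nJ j (-a) = (nJ j a)⁻¹ := by
  rw [nJ, nJ, _root_.mul_inv_rev, _root_.mul_inv_rev, xp_neg, xn_neg, inv_neg, mul_assoc]

theorem hJ_conj (j k : Fin A.o) {a : ↥(FF A j)} (ha : a ≠ 0) (u : ↥(FF A k)) :
    ∃ v : ↥(FF A k), hJ j a * xp A k u * (hJ j a)⁻¹ = xp A k v ∧ (v : F) = PP A j k a * u := by
  have hT := A.D.ok.valid
  obtain ⟨hab, -, hlt, -⟩ := A.facts j.2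
  have ha' : (a : F) ≠ 0 := fun h => ha (Subtype.ext h)
  set c : Fˣ := Units.mk0 (a : F) ha' with hc
  have key := A.D.cyc_hU hab c
  set l := (List.range (A.L j).length).map fun e => T.hCh ((A.L j).getD e 0)
    ((⇑(Units.map A.D.f.toRingHom.toMonoidHom))^[e] c) with hl
  have hv : (hJ j a : GL T.I F) = T.dU l.prod := by
    rw [← list_prod_dU, hl, List.map_map]
    refine Eq.trans ?_ key.symm
    simp only [hJ, nJ, Subgroup.coe_mul]
    rfl
  have hd : (hJ j a : GL T.I F) ∈ T.datum.diagonalSubgroup F := by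
    rw [hv, ← list_prod_dU]
    refine list_prod_mem fun x hx => ?_
    obtain ⟨χ, hχ, rfl⟩ := List.mem_map.mp hx
    obtain ⟨e, he, rfl⟩ := List.mem_map.mp hχ
    rw [diagonalSubgroup_eq hT]
    exact Subgroup.subset_closure ⟨_, ((A.D.chkAb_facts hab).2 e (List.mem_range.mp he)).1, _, rfl⟩
  obtain ⟨χ, hχ, eχ⟩ := diag_exists_char hT hd
  have hf : T.dU χ ∈ A.S.fix := eχ ▸ (hJ j a).2
  obtain ⟨v, hv1, hv2⟩ := diag_conj_xp hχ (eχ ▸ hd) hf k u
  have eh : hJ j a = ⟨T.dU χ, hf⟩ := Subtype.ext eχ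
  refine ⟨v, by rw [eh]; exact hv1, ?_⟩
  rw [hv2]
  congr 1
  obtain ⟨i, hi, -⟩ := head_simple k
  have hrl : (A.L k).getD 0 0 < T.n := by rw [hi]; exact simple_lt hT i.2
  rw [dU_apply_inj (χ := χ) (ψ := l.prod) (eχ.symm.trans hv) hrl, hl]
  have : ∀ (l : List (ℕ → Fˣ)) (s : ℕ), ((l.prod s : Fˣ) : F) = (l.map fun χ => ((χ s : Fˣ) : F)).prod := by
    intro l s
    induction l with
    | nil => simp
    | cons χ l ih => simp [ih]
  rw [this, List.map_map, PP, A.length_L]
  refine congrArg List.prod (List.map_congr_left fun e he => ?_)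
  have he' := List.mem_range.mp he
  have hit : ∀ e : ℕ, (((⇑(Units.map A.D.f.toRingHom.toMonoidHom))^[e] c : Fˣ) : F) = (⇑A.D.f)^[e] (a : F) := by
    intro e
    induction e with
    | zero => rfl
    | succ e ih => rw [Function.iterate_succ_apply', Function.iterate_succ_apply', ← ih]; rfl
  have hs : (A.L j).getD e 0 = T.simple ((A.Ss.getD j []).getD e 0) := by
    rw [List.getD_eq_getElem _ _ (show e < (A.L j).length by rw [A.length_L]; exact he'),
      List.getD_eq_getElem _ _ he']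
    simp [AbSetup.L, simples]
  simp only [Function.comp_apply, hCh, Units.val_zpow_eq_zpow_val, hit, hs]
  rw [pair_simple hT]
  exact hlt _ (by rw [List.getD_eq_getElem _ _ he']; exact List.getElem_mem _)

variable [Finite F]

/-- The criterion for exchanging the subgroups of an orbit. -/
theorem exchange (j : Fin A.o) {a b : ↥(FF A j)} (ha : a ≠ 0)
    (h : (XP A j).map (MulAut.conj (xp A j a * xn A j b * xp A j a)).toMonoidHom = XN A j) : b = -a⁻¹ := by
  have hfix : ∀ s, (XP A j).map (MulAut.conj (xp A j s)).toMonoidHom = XP A j := fun s =>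
    Aut.map_conj_of_mem (Subgroup.le_normalizer (xp_mem j s))
  have hne : XP A j ≠ XN A j := fun e => xp_ne_one j one_ne_zero (Subgroup.mem_bot.mp
    ((XP_inf_XN j j).le (Subgroup.mem_inf.mpr ⟨xp_mem j 1, e ▸ xp_mem j 1⟩)))
  by_cases hb : b = 0
  · exfalso
    subst hb
    rw [xn_zero, mul_one, xp_add, hfix] at h
    exact hne h
  set u := -b⁻¹ with hu
  have hu0 : u ≠ 0 := neg_ne_zero.mpr (inv_ne_zero hb)
  have eb : -u⁻¹ = b := by rw [hu, inv_neg, inv_inv, neg_neg]
  set s := a - u with hs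
  have e : xp A j a * xn A j b * xp A j a = xp A j s * nJ j u * xp A j s := by
    rw [nJ, eb, show xp A j s * (xp A j u * xn A j b * xp A j u) * xp A j s =
      (xp A j s * xp A j u) * xn A j b * (xp A j u * xp A j s) by group, xp_add, xp_add, hs,
      sub_add_cancel, add_sub_cancel]
  obtain ⟨hN1, hN2⟩ := map_conj_XP_XN (n := nJ j u) (nJ_mono j hu0)
  rw [e, Aut.map_conj_mul, hfix, Aut.map_conj_mul, hN1] at h
  set c := nJ j u * xp A j s * (nJ j u)⁻¹ with hc
  obtain ⟨d, hd⟩ : ∃ d, c = xn A j d := exists_xn (hN1.le ⟨_, xp_mem j s, rfl⟩)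
  have hinv : (XP A j).map (MulAut.conj (nJ j u)⁻¹).toMonoidHom = XN A j := by
    conv_lhs => rw [← hN2]
    rw [← Aut.map_conj_mul, inv_mul_cancel, map_one]
    exact Subgroup.map_id _
  have hcfix : (XP A j).map (MulAut.conj c).toMonoidHom = XP A j := by
    rw [hc, Aut.map_conj_mul, hinv, Aut.map_conj_mul, h, hN2]
  suffices hd0 : d = 0 by
    rw [hd0, xn_zero, hc, conj_eq_one_iff] at hd
    have hau : a = u := sub_eq_zero.mp (xp_injective j (hd.trans (xp_zero j).symm))
    rw [hau, eb]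
  by_contra hd0
  set v := -d⁻¹ with hv
  have ev : -v⁻¹ = d := by rw [hv, inv_neg, inv_inv, neg_neg]
  have h1 := (map_conj_XP_XN (n := nJ j v) (nJ_mono j (neg_ne_zero.mpr (inv_ne_zero hd0)))).1
  rw [nJ, ev, ← hd, Aut.map_conj_mul, hfix, Aut.map_conj_mul, hcfix, hfix] at h1
  exact hne h1

/-- An automorphism fixing every orbit subgroup, in coordinates. -/
theorem exists_field_parts (hsq : ∀ (j : Fin A.o) (a : F), PP A j j a = a * a) {θ : MulAut ↥A.S.fix}
    (hπ : ∀ j, (XP A j).map θ.toMonoidHom = XP A j ∧ (XN A j).map θ.toMonoidHom = XN A j) :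
    ∃ (φ : ∀ j, ↥(FF A j) ≃+* ↥(FF A j)) (c : ∀ j, (↥(FF A j))ˣ),
      (∀ j t, θ (xp A j t) = xp A j ((c j : ↥(FF A j)) * φ j t) ∧
        θ (xn A j t) = xn A j (((c j)⁻¹ : (↥(FF A j))ˣ) * φ j t)) ∧
      ∀ (j k : Fin A.o) (a : ↥(FF A j)) (v : ↥(FF A k)), a ≠ 0 → (v : F) = PP A j k a →
        (φ k v : F) = PP A j k (φ j a) := by
  have hexp : ∀ j t, ∃ t', θ (xp A j t) = xp A j t' := fun j t =>
    exists_xp ((hπ j).1.le ⟨_, xp_mem j t, rfl⟩)
  have hexn : ∀ j t, ∃ t', θ (xn A j t) = xn A j t' := fun j t =>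
    exists_xn ((hπ j).2.le ⟨_, xn_mem j t, rfl⟩)
  choose α hα using hexp
  choose β hβ using hexn
  have hαadd : ∀ j a b, α j (a + b) = α j a + α j b := fun j a b =>
    xp_injective j (by rw [← hα, ← xp_add, map_mul, hα, hα, xp_add])
  have hαinj : ∀ j, Function.Injective (α j) := fun j a b e =>
    xp_injective j (θ.injective ((hα j a).trans ((congrArg (xp A j) e).trans (hα j b).symm)))
  have hα0 : ∀ j, α j 0 = 0 := fun j => xp_injective j (by rw [← hα, xp_zero, map_one])
  have hαneg : ∀ j a, α j (-a) = -α j a := fun j a =>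
    eq_neg_of_add_eq_zero_left (by rw [← hαadd, neg_add_cancel, hα0])
  have hne : ∀ j {t}, t ≠ 0 → α j t ≠ 0 := fun j t ht e => ht (hαinj j (e.trans (hα0 j).symm))
  have hβα : ∀ j {t : ↥(FF A j)}, t ≠ 0 → β j (-t⁻¹) = -(α j t)⁻¹ := by
    intro j t ht
    refine exchange j (hne j ht) ?_
    have e : θ (nJ j t) = xp A j (α j t) * xn A j (β j (-t⁻¹)) * xp A j (α j t) := by
      rw [nJ, map_mul, map_mul, hα, hβ]
    rw [← e]
    conv_lhs => rw [← (hπ j).1]
    rw [← Aut.map_conj_normal, (map_conj_XP_XN (nJ_mono j ht)).1]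
    exact (hπ j).2
  have hn : ∀ j {t : ↥(FF A j)}, t ≠ 0 → θ (nJ j t) = nJ j (α j t) := by
    intro j t ht
    rw [nJ, map_mul, map_mul, hα, hβ, hβα j ht, nJ]
  let c : ∀ j, (↥(FF A j))ˣ := fun j => Units.mk0 (α j 1) (hne j one_ne_zero)
  let a : ∀ j, ↥(FF A j) → ↥(FF A j) := fun j t => ((c j)⁻¹ : (↥(FF A j))ˣ) * α j t
  have ha1 : ∀ j, a j 1 = 1 := fun j => by simp [a, c, hne j one_ne_zero]
  have hmul : ∀ (j k : Fin A.o) (t : ↥(FF A j)) (v w u : ↥(FF A k)), t ≠ 0 →
      (v : F) = PP A j k t → (w : F) = PP A j k (a j t) → a k (v * u) = w * a k u := by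
    intro j k t v w u ht hv hw
    obtain ⟨v', e1, ev'⟩ := hJ_conj j k ht u
    obtain rfl : v' = v * u := Subtype.ext (by rw [ev', ← hv]; rfl)
    have hθ : θ (hJ j t) = hJ j (α j t) * (hJ j (α j 1))⁻¹ := by
      rw [hJ, map_mul, hn j ht, hn j (neg_ne_zero.mpr one_ne_zero), hαneg, hJ, hJ,
        nJ_neg j (α j 1), nJ_neg j 1]
      group
    have e2 := congrArg θ e1
    rw [map_mul, map_mul, map_inv, hα, hα, hθ] at e2
    obtain ⟨x, e3, hx⟩ := hJ_conj j k (hne j one_ne_zero) (((w : ↥(FF A k)) : ↥(FF A k)) * a k u * (c k))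
    have hone : PP A j k (α j 1 : F) * PP A j k (a j t : F) = PP A j k (α j t : F) := by
      rw [← PP_mul]
      congr 1
      show (α j 1 : F) * ((((c j)⁻¹ : (↥(FF A j))ˣ) : ↥(FF A j)) * α j t : ↥(FF A j)) = _
      rw [Subfield.coe_mul, ← mul_assoc, ← Subfield.coe_mul]
      rw [show α j 1 = (c j : ↥(FF A j)) from rfl, Units.mul_inv]
      exact one_mul _
    obtain ⟨y, e4, hy⟩ := hJ_conj j k (hne j ht) (α k u)
    have hxy : x = y := Subtype.ext (by
      rw [hx, hy, ← hone, Subfield.coe_mul, Subfield.coe_mul, hw]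
      have : (a k u : F) * ((c k : ↥(FF A k)) : F) = α k u := by
        rw [← Subfield.coe_mul]
        congr 1
        show ((c k)⁻¹ : (↥(FF A k))ˣ) * α k u * (c k : ↥(FF A k)) = α k u
        rw [mul_comm, ← mul_assoc, Units.mul_inv, one_mul]
      rw [mul_assoc (PP A j k (a j t : F)), this, mul_assoc])
    have e5 : hJ j (α j t) * (hJ j (α j 1))⁻¹ * xp A k (α k u) * (hJ j (α j t) * (hJ j (α j 1))⁻¹)⁻¹ =
        xp A k (w * a k u * c k) := by
      have hcomm : hJ j (α j t) * (hJ j (α j 1))⁻¹ = (hJ j (α j 1))⁻¹ * hJ j (α j t) := by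
        have hd : ∀ {s : ↥(FF A j)}, s ≠ 0 → (hJ j s : GL T.I F) ∈ T.datum.diagonalSubgroup F := by
          intro s hs
          refine mem_diag_of_mono_one A.D.ok.valid (mul_mem (nJ_monomial j hs) (nJ_monomial j
            (neg_ne_zero.mpr one_ne_zero))) ?_
          have := (nJ_mono j hs).mul (nJ_mono (A := A) j (neg_ne_zero.mpr (one_ne_zero (α := ↥(FF A j)))))
          rwa [show A.S.wJ A.O j * A.S.wJ A.O j = 1 from A.O.inv j] at this
        exact Subtype.ext (diag_comm A.D.ok.valid (hd (hne j ht)) (inv_mem (hd (hne j one_ne_zero))))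
      rw [hcomm]
      calc (hJ j (α j 1))⁻¹ * hJ j (α j t) * xp A k (α k u) * ((hJ j (α j 1))⁻¹ * hJ j (α j t))⁻¹
          = (hJ j (α j 1))⁻¹ * (hJ j (α j t) * xp A k (α k u) * (hJ j (α j t))⁻¹) * hJ j (α j 1) := by group
        _ = _ := by rw [e4, ← hxy, ← e3]; group
    have e6 := xp_injective k (e2.symm.trans e5)
    show ((c k)⁻¹ : (↥(FF A k))ˣ) * α k (v * u) = _
    rw [e6, mul_comm, mul_assoc, Units.mul_inv, mul_one]
  have hadd : ∀ j x y, a j (x + y) = a j x + a j y := fun j x y => by simp only [a, hαadd, mul_add]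
  have hsq' : ∀ j (t u : ↥(FF A j)), a j (t * t * u) = a j t * a j t * a j u := by
    intro j t u
    by_cases ht : t = 0
    · subst ht; simp [a, hα0]
    exact hmul j j t (t * t) (a j t * a j t) u ht (by rw [hsq]; rfl) (by rw [hsq]; rfl)
  have hprod : ∀ j x y, a j (x * y) = a j x * a j y := by
    intro j x y
    obtain ⟨p, q, rfl⟩ := Aut.exists_two_squares x
    have e1 : ∀ p, a j (p * p) = a j p * a j p := fun p => by
      have := hsq' j p 1
      rwa [mul_one, ha1, mul_one] at this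
    rw [sq, sq, add_mul, hadd, hadd, hsq', hsq', e1, e1, add_mul]
  have hbij : ∀ j, Function.Bijective (a j) := fun j =>
    Finite.injective_iff_bijective.mp fun x y e =>
      hαinj j (mul_left_cancel₀ (Units.ne_zero _) e)
  let φ : ∀ j, ↥(FF A j) ≃+* ↥(FF A j) := fun j =>
    { Equiv.ofBijective (a j) (hbij j) with
      map_mul' := hprod j
      map_add' := hadd j }
  have hαφ : ∀ j t, α j t = (c j : ↥(FF A j)) * φ j t := fun j t => by
    show α j t = (c j : ↥(FF A j)) * (((c j)⁻¹ : (↥(FF A j))ˣ) * α j t)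
    rw [← mul_assoc, Units.mul_inv, one_mul]
  refine ⟨φ, c, fun j t => ⟨by rw [hα, hαφ], ?_⟩, fun j k t v ht hv => ?_⟩
  · rw [hβ]
    congr 1
    by_cases ht : t = 0
    · subst ht
      simp only [map_zero, mul_zero]
      exact xn_injective j (by rw [← hβ, xn_zero, map_one])
    · have := hβα j (t := -t⁻¹) (neg_ne_zero.mpr (inv_ne_zero ht))
      rw [inv_neg, inv_inv, neg_neg] at this
      rw [this, hαφ, map_neg, map_inv₀, mul_neg, inv_neg, neg_neg, mul_inv, inv_inv,
        Units.val_inv_eq_inv_val]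
  · obtain ⟨w, -, hw⟩ := hJ_conj j k (a := a j t) (mul_ne_zero (Units.ne_zero _) (hne j ht)) 1
    rw [Subfield.coe_one, mul_one] at hw
    have := hmul j k t v w 1 ht hv hw
    rw [mul_one, ha1, mul_one] at this
    show (a k v : F) = PP A j k (a j t)
    rw [this, hw]

end CfsgLib.KnownB.AutTw
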