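import Cfsg.Agent.Lib.KnownB.AutTw.F4Base
import Cfsg.Agent.Lib.KnownC.AutPSL.Outer

/-!
The automorphisms of ²F₄.
-/

set_option autoImplicit false
set_option maxRecDepth 20000
set_option Elab.async false

namespace CfsgLib.KnownB.AutTw.F4

open CfsgLib.Chevalley CfsgLib.Chevalley.Tbl CfsgLib.Chevalley.Twist.F4 CfsgLib.KnownB.AutTw.Gn

local notation "T4" => Data.F4.tbl

variable {K : Type*} [Field K] [Finite K] {m : ℕ} (hK : Nat.card K = 2 ^ (2 * m + 1))
include hK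

theorem pF_mem (t : K) : pF hK t ∈ XP (S hK) (O hK) (0 : Fin 2) :=
  Subgroup.mem_subgroupOf.mpr (Subgroup.mem_inf.mp (pair_mem_Uw hK t)).2

theorem qF_mem (t u : K) : qF hK t u ∈ XP (S hK) (O hK) (1 : Fin 2) :=
  Subgroup.mem_subgroupOf.mpr (Subgroup.mem_inf.mp (quad_mem_Uw hK t u)).2

theorem exists_pF {g : ↥(S hK).fix} (hg : g ∈ XP (S hK) (O hK) (0 : Fin 2)) : ∃ t, g = pF hK t := by
  obtain ⟨t, e⟩ := exists_pair hK (Subgroup.mem_inf.mpr ⟨g.2, Subgroup.mem_subgroupOf.mp hg⟩)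
  exact ⟨t, Subtype.ext e⟩

theorem exists_qF {g : ↥(S hK).fix} (hg : g ∈ XP (S hK) (O hK) (1 : Fin 2)) : ∃ t u, g = qF hK t u := by
  obtain ⟨t, u, e⟩ := exists_quad hK (Subgroup.mem_inf.mpr ⟨g.2, Subgroup.mem_subgroupOf.mp hg⟩)
  exact ⟨t, u, Subtype.ext e⟩

theorem card_XP0 : Nat.card (XP (S hK) (O hK) (0 : Fin 2)) = 2 ^ (2 * m + 1) := by
  refine Eq.trans ?_ hK
  refine (Nat.card_eq_of_bijective (fun t => (⟨pF hK t, pF_mem hK t⟩ : ↥(XP (S hK) (O hK) (0 : Fin 2))))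
    ⟨fun a b h => pF_inj hK (congrArg Subtype.val h), fun g => ?_⟩).symm
  obtain ⟨t, e⟩ := exists_pF hK g.2
  exact ⟨t, Subtype.ext e.symm⟩

theorem card_XP1 : Nat.card (XP (S hK) (O hK) (1 : Fin 2)) = (2 ^ (2 * m + 1)) ^ 2 := by
  refine Eq.trans ?_ (by rw [Nat.card_prod, hK, pow_two] : Nat.card (K × K) = _)
  refine (Nat.card_eq_of_bijective (fun p : K × K => (⟨qF hK p.1 p.2, qF_mem hK p.1 p.2⟩ :
    ↥(XP (S hK) (O hK) (1 : Fin 2)))) ⟨fun a b h => ?_, fun g => ?_⟩).symm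
  · obtain ⟨e1, e2⟩ := qF_inj hK (congrArg Subtype.val h)
    exact Prod.ext e1 e2
  · obtain ⟨t, u, e⟩ := exists_qF hK g.2
    exact ⟨(t, u), Subtype.ext e.symm⟩

theorem card_XN (j : Fin (O hK).o) : Nat.card (XN (S hK) (O hK) j) = Nat.card (XP (S hK) (O hK) j) := by
  rw [← (map_conj_XP_XN (mono_repF (hV hK) j)).1, Subgroup.card_map_of_injective (MulAut.conj _).injective]

theorem XP_ne_bot (j : Fin (O hK).o) : XP (S hK) (O hK) j ≠ ⊥ := by
  obtain ⟨q, hqf, hq1, hq⟩ := Tbl.Twist.exists_pos_elt (hV hK) j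
  intro e
  exact hq1 (congrArg Subtype.val (Subgroup.mem_bot.mp
    (e.le (show (⟨q, hqf⟩ : ↥(S hK).fix) ∈ XP (S hK) (O hK) j from Subgroup.mem_subgroupOf.mpr hq))))

/-- A normalised automorphism preserves the four subgroups. -/
theorem preserves {θ : MulAut ↥(S hK).fix} (h : NormTw (S hK) θ) (j : Fin (O hK).o) :
    (MJ (hV hK) j).map θ.toMonoidHom = MJ (hV hK) j ∧
      (XN (S hK) (O hK) j).map θ.toMonoidHom = XN (S hK) (O hK) j ∧
      (XP (S hK) (O hK) j).map θ.toMonoidHom = XP (S hK) (O hK) j := by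
  have hT : (T4).Valid := Data.F4.valid
  obtain ⟨π, hπ⟩ := exists_perm (hV := hV hK) h
  have hcard : ∀ k, Nat.card (XP (S hK) (O hK) (π k)) = Nat.card (XP (S hK) (O hK) k) := fun k => by
    rw [← card_XN hK, ← card_XN hK, ← (hπ k).2, Subgroup.card_map_of_injective θ.injective]
  have hsz : Nat.card (XP (S hK) (O hK) (0 : Fin 2)) ≠ Nat.card (XP (S hK) (O hK) (1 : Fin 2)) := by
    rw [card_XP0 hK, card_XP1 hK]
    exact ne_of_lt (lt_self_pow₀ (Nat.one_lt_two_pow (by omega)) one_lt_two)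
  have k01 : ∀ a b : Fin 2, a ≠ b →
      Nat.card (XP (S hK) (O hK) a) ≠ Nat.card (XP (S hK) (O hK) b) := fun (a : Fin 2) (b : Fin 2) hab => by
    match a, b with
    | 0, 0 => exact absurd rfl hab
    | 1, 1 => exact absurd rfl hab
    | 0, 1 => exact hsz
    | 1, 0 => exact hsz.symm
  have hid : ∀ k : Fin 2, π k = k := fun k => by_contra fun hne => k01 (π k) k hne (hcard k)
  obtain ⟨h1, h2⟩ := hπ j
  rw [show π j = j from hid j] at h1 h2
  refine ⟨h1, h2, ?_⟩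
  -- the longest element is minus the identity
  obtain ⟨n, w0, hw0, hm, hn, hiff, hUV, hVU⟩ := exists_n1 (O := O hK) (hV hK)
  set wl := ((S hK).wJ (O hK) (0 : Fin 2) * (S hK).wJ (O hK) (1 : Fin 2)) ^ 4 with hwl
  have ew : ∀ (k : Fin 2) (s : Fin (T4).n),
      ((S hK).wJ (O hK) k s).val = (T4).actWord (Data.F4.orbWords.getD k []) s :=
    fun k s => (data hK).orbits_wJ chk_orbits k s
  have key : ∀ r < (T4).n,
      (fun s => (T4).actWord (Data.F4.orbWords.getD 0 []) ((T4).actWord (Data.F4.orbWords.getD 1 []) s))^[4] r =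
        (T4).neg r := by decide +kernel
  have hwl1 : ∀ r : Fin (T4).n, (wl r).val = (T4).neg r.val := by
    intro r
    have hit : ∀ (k : ℕ) (r : Fin (T4).n),
        ((((S hK).wJ (O hK) (0 : Fin 2) * (S hK).wJ (O hK) (1 : Fin 2)) ^ k) r).val =
          (fun s => (T4).actWord (Data.F4.orbWords.getD 0 []) ((T4).actWord (Data.F4.orbWords.getD 1 []) s))^[k]
            r.val := by
      intro k
      induction k with
      | zero => intro r; rfl
      | succ k ih =>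
        intro r
        rw [pow_succ, Equiv.Perm.mul_apply, ih, Function.iterate_succ_apply]
        exact congrArg _ ((ew 0 _).trans (congrArg _ (ew 1 r)))
    exact (hit 4 r).trans (key r.val r.2)
  have hwlW : wl ∈ (S hK).W1 :=
    pow_mem (mul_mem ((S hK).wJ_mem (O hK) _) ((S hK).wJ_mem (O hK) _)) 4
  have hw : w0 = wl := by
    refine (inv_mul_eq_one.mp (eq_one_of_pos (S hK).valid (mul_mem (inv_mem hwlW.1) hw0.1) fun i => ?_)).symm
    rw [Equiv.Perm.mul_apply]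
    by_contra hlt
    have h3 := (hiff _).mp (half_le_simpF (S hK).valid i)
    set r := wl⁻¹ (w0 ((T4).simpF (S hK).valid i))
    have hr : (wl r).val = (w0 ((T4).simpF (S hK).valid i)).val := by
      simp [r]
    rw [hwl1] at hr
    have h4 : (T4).half ≤ ((T4).negF r).val := le_negF (not_le.mp hlt)
    exact absurd h3 (not_lt.mpr (le_of_le_of_eq h4 hr))
  have hXN : (XN (S hK) (O hK) j).map (MulAut.conj n).toMonoidHom = XP (S hK) (O hK) j := by
    refine Subgroup.eq_of_le_of_card_ge ?_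
      (by rw [Subgroup.card_map_of_injective (MulAut.conj n).injective, card_XN hK])
    rintro _ ⟨y, hy, rfl⟩
    refine Subgroup.mem_subgroupOf.mpr (conj_mem_rootGen hT hm (fun r ⟨_, hr, hr'⟩ => ?_)
      (Subgroup.mem_subgroupOf.mp hy))
    have e : w0 r = (T4).negF r := Fin.ext (by rw [hw, hwl1]; rfl)
    refine ⟨(w0 r).2, by rw [e]; exact le_negF hr, ?_⟩
    show ((S hK).wJ (O hK) j (w0 r)).val < (T4).half
    rw [e, WP_negF (S hK).valid ((S hK).wJ_mem (O hK) j).1]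
    exact negF_lt hr'
  set x := n⁻¹ * θ n with hxdef
  have hnx : θ n = n * x := by rw [hxdef, mul_inv_cancel_left]
  have hxU : ∀ {A B : Subgroup ↥(S hK).fix}, A.map θ.toMonoidHom = A → B.map θ.toMonoidHom = B →
      A.map (MulAut.conj n).toMonoidHom = B → A.map (MulAut.conj x).toMonoidHom = A := by
    intro A B hA hB hAB
    have e1 : A.map (MulAut.conj (θ n)).toMonoidHom = B := by
      conv_lhs => rw [← hA]
      rw [← Aut.map_conj_normal, hAB, hB]
    rw [hxdef, Aut.map_conj_mul, e1, ← hAB, ← Aut.map_conj_mul, inv_mul_cancel, map_one]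
    exact Subgroup.map_id _
  have hxd := mem_diag_of_normTw (O := O hK) (hV hK)
    (⟨hxU h.mapU h.mapV hUV, hxU h.mapV h.mapU hVU⟩ : NormTw (S hK) (MulAut.conj x))
  have hxN : (XN (S hK) (O hK) j).map (MulAut.conj x).toMonoidHom = XN (S hK) (O hK) j := by
    refine Aut.map_conj_of_mem (Subgroup.mem_normalizer_iff.mpr fun y => ?_)
    exact Subgroup.mem_normalizer_iff.mp (diag_le_normalizer hT _ hxd) (y : GL (T4).I K)
  rw [← hXN, Aut.map_conj_normal, h2, hnx, Aut.map_conj_mul, hxN]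

/-- The monomial element of an orbit moves by an element of `B₁`. -/
theorem nx_mem_B1 {θ : MulAut ↥(S hK).fix} (h : NormTw (S hK) θ) (j : Fin (O hK).o) {n : ↥(S hK).fix}
    (hn : (n : GL (T4).I K) ∈ (T4).datum.monomialSubgroup K)
    (hm : (T4).Mono (n : GL (T4).I K) ((S hK).wJ (O hK) j)) : n⁻¹ * θ n ∈ B1 (S hK) := by
  obtain ⟨hM, hN, hP⟩ := preserves hK h j
  have hd : ((repF (hV hK) j)⁻¹ * n : ↥(S hK).fix) ∈ B1 (S hK) := by
    refine Subgroup.mem_subgroupOf.mpr (Subgroup.mem_sup_right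
      (mem_diag_of_mono_one (S hK).valid (mul_mem (inv_mem (Tbl.Twist.rep_N (hV hK) j)) hn) ?_))
    have := (mono_repF (hV hK) j).inv.mul hm
    rwa [inv_mul_cancel] at this
  have hnM : n ∈ MJ (hV hK) j := by
    have := mul_mem (repF_mem (hV := hV hK) j) (B1_le_MJ (hV := hV hK) j hd)
    rwa [mul_inv_cancel_left] at this
  set x := n⁻¹ * θ n with hxdef
  have hxM : x ∈ MJ (hV hK) j := mul_mem (inv_mem hnM) (hM.le ⟨n, hnM, rfl⟩)
  have hxP : (XP (S hK) (O hK) j).map (MulAut.conj x).toMonoidHom = XP (S hK) (O hK) j := by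
    have e1 : (XP (S hK) (O hK) j).map (MulAut.conj (θ n)).toMonoidHom = XN (S hK) (O hK) j := by
      conv_lhs => rw [← hP]
      rw [← Aut.map_conj_normal, (map_conj_XP_XN hm).1, hN]
    rw [hxdef, Aut.map_conj_mul, e1, ← (map_conj_XP_XN hm).1, ← Aut.map_conj_mul, inv_mul_cancel, map_one]
    exact Subgroup.map_id _
  rcases mem_MJ hxM with h' | ⟨b, hb, y, hy, e⟩
  · exact h'
  exfalso
  refine XP_ne_bot hK j ?_
  have h1 : (XP (S hK) (O hK) j).map (MulAut.conj (repF (hV hK) j)).toMonoidHom =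
      (XP (S hK) (O hK) j).map (MulAut.conj b⁻¹).toMonoidHom := by
    conv_rhs => rw [← hxP, e]
    rw [Aut.map_conj_mul (b * _) y, Aut.map_conj_of_mem (Subgroup.le_normalizer hy), Aut.map_conj_mul,
      ← Aut.map_conj_mul b⁻¹ b, inv_mul_cancel, map_one]
    exact (Subgroup.map_id _).symm
  rw [(map_conj_XP_XN (mono_repF (hV hK) j)).1] at h1
  have h2 : XN (S hK) (O hK) j ≤ U1 (S hK) := by
    rw [h1]
    refine le_of_le_of_eq (Subgroup.map_mono (XP_le_U1 j)) ?_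
    exact Aut.map_conj_of_mem (B1_le_normalizer (inv_mem hb))
  have h3 : XN (S hK) (O hK) j = ⊥ :=
    eq_bot_iff.mpr ((le_inf h2 (XN_le_V1 j)).trans U1_inf_V1.le)
  rw [h3, eq_comm, Subgroup.map_eq_bot_iff_of_injective _ (MulAut.conj _).injective] at h1
  exact h1

theorem sq_inj {a b : Kˣ} (h : a ^ 2 = b ^ 2) : a = b := by
  rw [← sqrt_units hK a, ← sqrt_units hK b, ← mul_pow, ← mul_pow, ← pow_two, ← pow_two, h]

/-- An automorphism fixing the pair and the first coordinate of the other class is trivial. -/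
theorem eq_one_of_fix (hm : 1 ≤ m) {θ : MulAut ↥(S hK).fix} (h : NormTw (S hK) θ)
    (hp : ∀ t, θ (pF hK t) = pF hK t) (hq : ∀ t, ∃ δ, θ (qF hK t 0) = qF hK t δ) : θ = 1 := by
  choose δ hδ using hq
  have hsq : ∀ t, θ (qF hK 0 (t ^ (2 ^ m + 1))) = qF hK 0 (t ^ (2 ^ m + 1)) := by
    intro t
    have e := congrArg θ (qF_sq hK t 0)
    rw [map_mul, hδ, qF_sq] at e
    exact e.symm
  have hcentre : ∀ u, θ (qF hK 0 u) = qF hK 0 u := by
    intro u
    by_cases hu : u = 0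
    · rw [hu, qF_zero, map_one]
    set v := Units.mk0 u hu with hv
    have e : ((v ^ 2 * (v ^ (2 * 2 ^ m))⁻¹) ^ (2 ^ m + 1) : Kˣ) = v := by
      have h1 : (v ^ (2 * 2 ^ m)) ^ (2 ^ m + 1) = v * v ^ (2 * 2 ^ m) := by
        rw [pow_succ, units_theta' hK]
      rw [mul_pow, inv_pow, h1, mul_inv_eq_iff_eq_mul, ← pow_mul, mul_add, mul_one, pow_add, ← mul_assoc,
        ← pow_two, mul_comm]
    have := hsq ((v ^ 2 * (v ^ (2 * 2 ^ m))⁻¹ : Kˣ) : K)
    rwa [← Units.val_pow_eq_pow_val, e] at this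
  have hsplit : ∀ t u, qF hK t u = qF hK t 0 * qF hK 0 u := fun t u => by
    rw [qF_mul, add_zero, zero_add, mul_zero, add_zero]
  -- the torus
  have hH : ∀ x : ↥(S hK).fix, (x : GL (T4).I K) ∈ (T4).datum.diagonalSubgroup K → θ x = x := by
    intro x hx
    obtain ⟨a, b, w⟩ := exists_wt hK hx
    have hx' := map_diag_mem (O := O hK) (hV hK) h hx
    obtain ⟨a', b', w'⟩ := exists_wt hK hx'
    refine Wt.inj hK hx' hx w' ?_
    have ea : a' = a := by
      refine Units.ext ?_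
      have e := congrArg θ (w.1 1)
      rw [map_mul, map_mul, map_inv, hp, hp, w'.1] at e
      simpa using pF_inj hK e
    have eb : b' = b := by
      refine Units.ext ?_
      have e := congrArg θ (w.2 1 0)
      rw [map_mul, map_mul, map_inv, hδ, w'.2, mul_zero, mul_one, hδ] at e
      simpa using (qF_inj hK e).1
    rwa [ea, eb]
  have hadd : ∀ t s, δ (t + s) = δ t + δ s := by
    intro t s
    have e := congrArg θ (qF_mul hK t 0 s 0)
    rw [map_mul, hδ, hδ, qF_mul, add_zero, zero_add, hsplit (t + s) (t ^ 2 ^ m * s), map_mul, hδ, hcentre, qF_mul,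
      mul_zero, add_zero, add_zero] at e
    linear_combination -((qF_inj hK e).2)
  have hequiv : ∀ c : Kˣ, δ ((c : K)⁻¹) = ((c : K) ^ (2 ^ m + 1))⁻¹ * δ 1 := by
    intro c
    have e := congrArg θ ((tF_wt1 hK c).2 1 0)
    rw [map_mul, map_mul, map_inv, hδ, hH _ (tF_diag hK c 1), (tF_wt1 hK c).2, mul_one, mul_zero, hδ,
      Units.val_inv_eq_inv_val] at e
    rw [← (qF_inj hK e).2, inv_pow]
  have hδ1 : δ 1 = 0 := by
    by_contra hne
    obtain ⟨c, hc2, hc1, -⟩ := exists_gen_unit hK hm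
    have hall : ∀ t : K, t ≠ 0 → δ t = t ^ (2 ^ m + 1) * δ 1 := by
      intro t ht
      have := hequiv (Units.mk0 t ht)⁻¹
      rwa [Units.val_inv_eq_inv_val, Units.val_mk0, inv_inv, inv_pow, inv_inv] at this
    have hc1' : (1 : K) + c ≠ 0 := fun e => hc1 (by linear_combination e - two_eq_zero hK)
    have e := hadd 1 c
    rw [hall _ hc1', hall _ c.ne_zero, pow_succ, pow_succ (c : K), add_pow2 hK, one_pow] at e
    have k1 : (c : K) ^ 2 ^ m = c := by
      refine mul_right_cancel₀ hne ?_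
      linear_combination e - (c : K) * δ 1 * two_eq_zero hK
    have k2 : (c : K) ^ 2 = c := by
      have := pow_theta hK (c : K)
      rw [k1, mul_comm, pow_mul, k1] at this
      exact this
    exact hc1 (mul_right_cancel₀ c.ne_zero (by rw [one_mul, ← pow_two, k2]))
  have hδ0 : ∀ t, δ t = 0 := by
    intro t
    by_cases ht : t = 0
    · subst ht
      have := hadd 0 0
      rw [add_zero] at this
      linear_combination -this
    · have := hequiv (Units.mk0 t ht)⁻¹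
      rwa [Units.val_inv_eq_inv_val, Units.val_mk0, inv_inv, hδ1, mul_zero] at this
  have hXP : ∀ (j : Fin 2), ∀ g ∈ XP (S hK) (O hK) j, θ g = g := fun (j : Fin 2) g hg => match j with
    | 0 => by obtain ⟨t, rfl⟩ := exists_pF hK hg; exact hp t
    | 1 => by
      obtain ⟨t, u, rfl⟩ := exists_qF hK hg
      rw [hsplit, map_mul, hδ, hδ0, hcentre]
  have hXN : ∀ (j : Fin 2), ∀ g ∈ XN (S hK) (O hK) j, θ g = g := by
    intro j g hg
    obtain ⟨v, hvf, hv1, hv⟩ := (hV hK) j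
    obtain ⟨q, hqf, hq', n, hnf, hnN, hnm, u, huf, hu, e⟩ :=
      Tbl.Twist.vJ_canonical (S := S hK) (O := O hK) j hvf hv1 hv
    let nn : ↥(S hK).fix := ⟨n, hnf⟩
    have hqX : (⟨q, hqf⟩ : ↥(S hK).fix) ∈ XP (S hK) (O hK) j := Subgroup.mem_subgroupOf.mpr hq'
    have huX : (⟨u, huf⟩ : ↥(S hK).fix) ∈ XP (S hK) (O hK) j := Subgroup.mem_subgroupOf.mpr hu
    have hvX : (⟨v, hvf⟩ : ↥(S hK).fix) ∈ XN (S hK) (O hK) j := Subgroup.mem_subgroupOf.mpr hv
    have hvV : (⟨v, hvf⟩ : ↥(S hK).fix) ∈ V1 (S hK) := XN_le_V1 (S := S hK) (O := O hK) j hvX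
    have huB : (⟨u, huf⟩ : ↥(S hK).fix) ∈ B1 (S hK) := U1_le_B1 (XP_le_U1 (S := S hK) (O := O hK) j huX)
    have hx : nn⁻¹ * θ nn ∈ B1 (S hK) := nx_mem_B1 hK h j (n := nn) hnN hnm
    have hqfix : θ ⟨q, hqf⟩ = ⟨q, hqf⟩ := hXP j _ hqX
    have hufix : θ ⟨u, huf⟩ = ⟨u, huf⟩ := hXP j _ huX
    obtain ⟨hnfix, -⟩ := fix_neg_elt (O := O hK) (hV hK) h (v := ⟨v, hvf⟩)
      hvV (q := ⟨q, hqf⟩) (n := nn) (u := ⟨u, huf⟩) (Subtype.ext e) huB hqfix hufix hx
    have hmap := (map_conj_XP_XN (S := S hK) (O := O hK) (j := j) (n := nn) hnm).1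
    obtain ⟨y, hy, rfl⟩ := hmap.ge hg
    show θ (nn * y * nn⁻¹) = nn * y * nn⁻¹
    rw [map_mul, map_mul, map_inv, hnfix, hXP j y hy]
  have hle : (S hK).fix ≤ (θ.toMonoidHom.eqLocus (MonoidHom.id _)).map (S hK).fix.subtype := by
    refine (grp_eq_fix hK).ge.trans ((grp_eq hK).le.trans ?_)
    rw [Subgroup.closure_le]
    intro x hx
    refine ⟨⟨x, gens_fix hK hx⟩, ?_, rfl⟩
    show θ ⟨x, _⟩ = ⟨x, _⟩
    rcases hx with ⟨t, rfl⟩ | ⟨t, rfl⟩ | ⟨t, u, rfl⟩ | ⟨t, u, rfl⟩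
    · exact hp t
    · exact hXN 0 _ (Subgroup.mem_subgroupOf.mpr (neg_pair_VJ hK t))
    · exact hXP 1 _ (qF_mem hK t u)
    · exact hXN 1 _ (Subgroup.mem_subgroupOf.mpr (neg_quad_VJ hK t u))
  refine MulEquiv.ext fun g => ?_
  obtain ⟨y, hy, e⟩ := hle g.2
  obtain rfl : y = g := Subtype.ext e
  exact hy

theorem field_pF (σ : K ≃+* K) (t : K) : fieldF4 hK σ (pF hK t) = pF hK (σ t) := by
  obtain ⟨⟨a, b⟩, -, -, -, -⟩ := pos_lt
  have hT : (T4).Valid := Data.F4.valid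
  refine Subtype.ext ?_
  show (Aut.fieldFun (S hK).valid σ ⟨Twist.F4.pair m 33 24 t, _⟩ : GL (T4).I K) = Twist.F4.pair m 33 24 (σ t)
  rw [show (⟨Twist.F4.pair m 33 24 t, (pair_fix hK (by simp) t).1⟩ : ↥((T4).datum.group K)) =
    Aut.xG hT ⟨24, a⟩ t * Aut.xG hT ⟨33, b⟩ (t ^ 2 ^ m) from Subtype.ext (by
      simp [Twist.F4.pair, gprod, Aut.xG]), map_mul, Aut.fieldFun_x, Aut.fieldFun_x, map_pow]
  simp [Twist.F4.pair, gprod, Aut.xG]

theorem field_qF (σ : K ≃+* K) (t u : K) : fieldF4 hK σ (qF hK t u) = qF hK (σ t) (σ u) := by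
  obtain ⟨-, a, b, c, d⟩ := pos_lt
  have hT : (T4).Valid := Data.F4.valid
  refine Subtype.ext ?_
  show (Aut.fieldFun (S hK).valid σ ⟨quad m 27 25 28 30 t u, _⟩ : GL (T4).I K) = quad m 27 25 28 30 (σ t) (σ u)
  rw [show (⟨quad m 27 25 28 30 t u, (quad_fix hK quadPos t u).1⟩ : ↥((T4).datum.group K)) =
    Aut.xG hT ⟨25, a⟩ t * (Aut.xG hT ⟨27, b⟩ (t ^ 2 ^ m) * (Aut.xG hT ⟨28, c⟩ u *
      Aut.xG hT ⟨30, d⟩ (t ^ (2 * 2 ^ m + 1) + u ^ (2 * 2 ^ m)))) from Subtype.ext (by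
      simp [quad, gprod, Aut.xG]), map_mul, map_mul, map_mul, Aut.fieldFun_x, Aut.fieldFun_x, Aut.fieldFun_x,
    Aut.fieldFun_x, map_add, map_pow, map_pow, map_pow]
  simp [quad, gprod, Aut.xG]

/-- Every normalised automorphism is a field automorphism followed by conjugation in the torus. -/
theorem exists_form (hm : 1 ≤ m) {θ : MulAut ↥(S hK).fix} (h : NormTw (S hK) θ) :
    ∃ (σ : K ≃+* K) (h₀ : ↥(S hK).fix), (h₀ : GL (T4).I K) ∈ (T4).datum.diagonalSubgroup K ∧ θ = MulAut.conj h₀ * fieldF4 hK σ := by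
  choose α hα using fun t => exists_pF hK ((preserves hK h (0 : Fin 2)).2.2.le ⟨_, pF_mem hK t, rfl⟩)
  choose β w hβ using fun t u => exists_qF hK ((preserves hK h (1 : Fin 2)).2.2.le ⟨_, qF_mem hK t u, rfl⟩)
  change ∀ t, θ (pF hK t) = pF hK (α t) at hα
  change ∀ t u, θ (qF hK t u) = qF hK (β t u) (w t u) at hβ
  have hadd : ∀ a b, α (a + b) = α a + α b := fun a b => by
    have e := congrArg θ (pF_mul hK a b)
    rw [map_mul, hα, hα, hα, pF_mul] at e
    exact (pF_inj hK e).symm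
  have hinj : Function.Injective α := fun a b e =>
    pF_inj hK (θ.injective ((hα a).trans ((congrArg (pF hK) e).trans (hα b).symm)))
  have hz : α 0 = 0 := by
    have := hadd 0 0
    rw [add_zero] at this
    linear_combination -this
  have hne : α 1 ≠ 0 := fun e => one_ne_zero (hinj (e.trans hz.symm))
  -- the torus of the pair is preserved
  have hn0 : ((repF (hV hK) (0 : Fin 2) : ↥(S hK).fix) : GL (T4).I K) ∈ (T4).datum.monomialSubgroup K :=
    Tbl.Twist.rep_N (hV hK) (0 : Fin 2)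
  have hn0m := mono_repF (hV hK) (0 : Fin 2)
  set n0 := repF (hV hK) (0 : Fin 2)
  obtain ⟨z, hzf, hzU, k, hkf, hk, exk⟩ := Tbl.Twist.borel_fix (S := S hK)
    (Subgroup.mem_subgroupOf.mp (nx_mem_B1 hK h (0 : Fin 2) hn0 hn0m)) (n0⁻¹ * θ n0).2
  have hψ : ∀ c : Kˣ, ∃ c', θ (tF hK c 1) = tF hK c' 1 := by
    intro c
    obtain ⟨c', d', e'⟩ := exists_tF hK (map_diag_mem (O := O hK) (hV hK) h (tF_diag hK c 1))
    suffices d' = 1 from ⟨c', by rw [e', this]⟩
    have e1 := congrArg θ (conj_tF hK hn0 hn0m c 1)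
    rw [mul_one, show tF hK c⁻¹ 1 = (tF hK c 1)⁻¹ by rw [tF_inv, inv_one], map_mul, map_mul, map_inv, map_inv,
      e'] at e1
    let zz : ↥(S hK).fix := ⟨z, hzf⟩
    let kk : ↥(S hK).fix := ⟨k, hkf⟩
    have hθn : θ n0 = n0 * (zz * kk) := by
      rw [show zz * kk = n0⁻¹ * θ n0 from Subtype.ext exk.symm, mul_inv_cancel_left]
    rw [hθn] at e1
    set τ := tF hK c' d'
    have hkτ : kk * τ * kk⁻¹ = τ := by
      obtain ⟨ck, dk, ek⟩ := exists_tF hK (h := kk) hk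
      rw [ek, tF_inv, tF_mul, tF_mul, mul_inv_cancel_comm, mul_inv_cancel_comm]
    have e2 : zz * τ * zz⁻¹ = n0⁻¹ * τ⁻¹ * n0 := by
      calc zz * τ * zz⁻¹ = zz * (kk * τ * kk⁻¹) * zz⁻¹ := by rw [hkτ]
        _ = n0⁻¹ * (n0 * (zz * kk) * τ * (n0 * (zz * kk))⁻¹) * n0 := by group
        _ = _ := by rw [e1]
    have hr : (n0⁻¹ * τ⁻¹ * n0 : ↥(S hK).fix).1 ∈ (T4).datum.diagonalSubgroup K := by
      have := conj_diag (S hK).valid (inv_mem hn0) (inv_mem (tF_diag hK c' d'))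
      rwa [inv_inv] at this
    have hu2 : z * ((τ : GL (T4).I K) * z⁻¹ * (τ : GL (T4).I K)⁻¹) ∈ (T4).rootGen K (fun r => (T4).half ≤ r) :=
      mul_mem hzU ((Subgroup.mem_normalizer_iff.mp (diag_le_normalizer (S hK).valid _ (tF_diag hK c' d')) _).mp
        (inv_mem hzU))
    obtain ⟨-, e3⟩ := borel_unique (S hK).valid (S hK).comm hu2 (one_mem _)
      (show (τ : GL (T4).I K) ∈ _ from tF_diag hK c' d') hr (by
      rw [one_mul, ← congrArg Subtype.val e2]
      show _ = z * (τ : GL (T4).I K) * z⁻¹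
      group)
    have e4 : n0 * τ * n0⁻¹ = τ⁻¹ := by
      calc n0 * τ * n0⁻¹ = n0 * (n0⁻¹ * τ⁻¹ * n0) * n0⁻¹ := by
            conv_lhs => rw [show τ = n0⁻¹ * τ⁻¹ * n0 from Subtype.ext e3]
        _ = τ⁻¹ := by group
    rw [conj_tF hK hn0 hn0m, tF_inv] at e4
    have e5 := (tF_inj hK e4).2
    refine sq_inj hK ?_
    rw [one_pow, pow_two]
    nth_rw 2 [e5]
    exact mul_inv_cancel d'
  choose ψ hψ using hψ
  have hαeq : ∀ (c : Kˣ) t, α ((c : K) ^ 2 * t) = (ψ c : K) ^ 2 * α t := by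
    intro c t
    have e := congrArg θ ((tF_wt1 hK c).1 t)
    rw [map_mul, map_mul, map_inv, hψ, hα, (tF_wt1 hK _).1, hα, Units.val_pow_eq_pow_val,
      Units.val_pow_eq_pow_val] at e
    exact (pF_inj hK e).symm
  have hβeq : ∀ (c : Kˣ), β ((c : K)⁻¹) 0 = (ψ c : K)⁻¹ * β 1 0 := by
    intro c
    have e := congrArg θ ((tF_wt1 hK c).2 1 0)
    rw [map_mul, map_mul, map_inv, hψ, hβ, (tF_wt1 hK _).2, mul_one, mul_zero, hβ,
      Units.val_inv_eq_inv_val, Units.val_inv_eq_inv_val] at e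
    exact (qF_inj hK e).1.symm
  let s : K → K := fun v => α v * (α 1)⁻¹
  have hsm : ∀ a b, s (a * b) = s a * s b := by
    intro a b
    by_cases ha : a = 0
    · subst ha; simp [s, hz]
    obtain ⟨c, hc⟩ : ∃ c : Kˣ, a = (c : K) ^ 2 := ⟨Units.mk0 a ha ^ 2 ^ (2 * m), by
      rw [← Units.val_pow_eq_pow_val, pow_two, sqrt_units hK, Units.val_mk0]⟩
    have e1 := hαeq c 1
    have e2 := hαeq c b
    rw [mul_one, ← hc] at e1
    rw [← hc] at e2
    simp only [s, e2, e1]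
    field_simp
  let σ : K ≃+* K :=
    { Equiv.ofBijective s (Finite.injective_iff_bijective.mp fun a b e =>
        hinj (mul_right_cancel₀ (inv_ne_zero hne) e)) with
      map_mul' := hsm
      map_add' := fun a b => by show s (a + b) = s a + s b; simp only [s, hadd, add_mul] }
  have hσ : ∀ v, σ v = α v * (α 1)⁻¹ := fun _ => rfl
  have hψσ : ∀ c : Kˣ, (ψ c : K) = σ c := by
    intro c
    have e : σ (c : K) ^ 2 = (ψ c : K) ^ 2 := by
      have := hαeq c 1
      rw [mul_one] at this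
      rw [← map_pow, hσ, this, mul_inv_cancel_right₀ hne]
    let u : Kˣ := Units.map σ.toMonoidHom c
    exact congrArg Units.val (sq_inj hK (a := ψ c) (b := u) (Units.ext (by
      rw [Units.val_pow_eq_pow_val, Units.val_pow_eq_pow_val]; exact e.symm)))
  have hβz : β 0 0 = 0 := by
    have e := hβ 0 0
    rw [qF_zero, map_one, ← qF_zero hK] at e
    exact (qF_inj hK e).1.symm
  have hβ1 : β 1 0 ≠ 0 := by
    intro e
    have h1 := congrArg θ (qF_sq hK 1 0)
    rw [map_mul, hβ, e, qF_sq, zero_pow (Nat.succ_ne_zero _), qF_zero, one_pow, eq_comm,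
      MulEquiv.map_eq_one_iff, ← qF_zero hK] at h1
    exact one_ne_zero (qF_inj hK h1).2
  have hβσ : ∀ t, β t 0 = β 1 0 * σ t := by
    intro t
    by_cases ht : t = 0
    · rw [ht, hβz, map_zero, mul_zero]
    have := hβeq (Units.mk0 t ht)⁻¹
    rw [hψσ, Units.val_inv_eq_inv_val, Units.val_mk0, inv_inv, map_inv₀, inv_inv] at this
    rw [this, mul_comm]
  obtain ⟨h₀, hd, hwt⟩ := exists_of_wt hK (Units.mk0 _ hne) (Units.mk0 _ hβ1)
  refine ⟨σ, h₀, hd, ?_⟩
  set φ := MulAut.conj h₀ * fieldF4 hK σ with hφ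
  suffices φ⁻¹ * θ = 1 by rw [inv_mul_eq_one] at this; exact this.symm
  have hn' : NormTw (S hK) (φ⁻¹ * θ) :=
    NormTw.mul (NormTw.mul (conj_diag_normTw hd) (fieldTw_normTw _ _ σ)).symm h
  refine eq_one_of_fix hK hm hn' (fun t => ?_) (fun t => ?_)
  · rw [MulAut.mul_apply, hα]
    show φ.symm _ = _
    rw [MulEquiv.symm_apply_eq, hφ, MulAut.mul_apply, field_pF, MulAut.conj_apply, hwt.1, Units.val_mk0,
      hσ, mul_comm (α t), mul_inv_cancel_left₀ hne]
  · refine ⟨σ.symm ((β 1 0 ^ (2 ^ m + 1))⁻¹ * w t 0), ?_⟩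
    rw [MulAut.mul_apply, hβ]
    show φ.symm _ = _
    rw [MulEquiv.symm_apply_eq, hφ, MulAut.mul_apply, field_qF, MulAut.conj_apply, hwt.2, Units.val_mk0,
      RingEquiv.apply_symm_apply, mul_inv_cancel_left₀ (pow_ne_zero _ hβ1), hβσ]

/-- The order of the outer automorphism group of ²F₄. -/
theorem out_f4 (hm : 1 ≤ m) : Nat.card (Cfsg.Out ↥(S hK).fix) = Nat.card (K ≃+* K) := by
  refine (Nat.card_eq_of_bijective (fun σ : K ≃+* K => QuotientGroup.mk' (Cfsg.Inn ↥(S hK).fix) (fieldF4 hK σ))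
    ⟨fun a b e => ?_, fun x => ?_⟩).symm
  · obtain ⟨y, hy⟩ : (fieldF4 hK a)⁻¹ * fieldF4 hK b ∈ Cfsg.Inn ↥(S hK).fix := QuotientGroup.eq.mp e
    rw [← map_inv, ← map_mul] at hy
    have hyd := mem_diag_of_normTw (O := O hK) (hV hK)
      (show NormTw (S hK) (MulAut.conj y) by
        rw [show MulAut.conj y = fieldF4 hK (a⁻¹ * b) from hy]; exact fieldTw_normTw _ _ _)
    obtain ⟨c, d, hw⟩ := exists_wt hK hyd
    have key : ∀ v : K, (c : K) * v = (a⁻¹ * b : K ≃+* K) v := by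
      intro v
      have h1 := DFunLike.congr_fun hy (pF hK v)
      rw [field_pF, MulAut.conj_apply, hw.1] at h1
      exact pF_inj hK h1
    have hc1 : (c : K) = 1 := by
      have := key 1
      rwa [mul_one, map_one] at this
    exact inv_mul_eq_one.mp (RingEquiv.ext fun v => by
      rw [← key v, hc1, one_mul]; rfl)
  · obtain ⟨θ, rfl⟩ := QuotientGroup.mk'_surjective _ x
    obtain ⟨y, hy⟩ := exists_normTw (O := O hK) (hV hK) θ
    obtain ⟨σ, h₀, -, e⟩ := exists_form hK hm hy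
    refine ⟨σ, QuotientGroup.eq.mpr ⟨(fieldF4 hK σ)⁻¹ (y⁻¹ * h₀), ?_⟩⟩
    have hθ : θ = (MulAut.conj y)⁻¹ * (MulAut.conj h₀ * fieldF4 hK σ) := by rw [← e]; group
    rw [hθ]
    refine MulEquiv.ext fun g => (fieldF4 hK σ).injective ?_
    simp only [MulAut.mul_apply, MulAut.conj_apply, map_mul, map_inv, MulAut.inv_def,
      MulEquiv.apply_symm_apply, MulAut.conj_symm_apply, _root_.mul_inv_rev, inv_inv]

end CfsgLib.KnownB.AutTw.F4
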