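import Cfsg.Agent.Lib.KnownB.AutTw.Gen
import Cfsg.Agent.Lib.Chevalley.Twist.InstF4

/-!
The fixed torus of ²F₄ and its action on the two classes of roots.
-/

set_option autoImplicit false
set_option maxRecDepth 20000
set_option Elab.async false

namespace CfsgLib.KnownB.AutTw.F4

open CfsgLib.Chevalley CfsgLib.Chevalley.Tbl CfsgLib.Chevalley.Twist.F4

local notation "T4" => Data.F4.tbl

variable {K : Type*} [Field K] [Finite K] {m : ℕ} (hK : Nat.card K = 2 ^ (2 * m + 1))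
include hK

theorem par_comm (r : Fin (T4).n) (σ : K ≃+* K) (t : K) : (S hK).par r (σ t) = σ ((S hK).par r t) := by
  show (_ : K) * theta hK (σ t) ^ _ = σ (_ * theta hK t ^ _)
  rw [theta_apply, theta_apply, map_mul, map_pow, map_pow, map_intCast]

/-- The field automorphisms. -/
noncomputable def fieldF4 : (K ≃+* K) →* MulAut ↥(S hK).fix := fieldTw (S hK) (par_comm hK)

/-- The fixed element of the pair. -/
noncomputable def pF (t : K) : ↥(S hK).fix := ⟨Twist.F4.pair m 33 24 t, pair_fix hK (by simp) t⟩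

/-- The fixed element of the class of type B₂. -/
noncomputable def qF (t u : K) : ↥(S hK).fix := ⟨quad m 27 25 28 30 t u, quad_fix hK quadPos t u⟩

/-- The fixed element of the torus. -/
noncomputable def tF (c d : Kˣ) : ↥(S hK).fix :=
  ⟨torusHom T4 K (supp m c d), ((diag_fix hK).ge (Subgroup.mem_map_of_mem _ (supp_mem hK c d))).2⟩

theorem tF_diag (c d : Kˣ) : (tF hK c d : GL (T4).I K) ∈ (T4).datum.diagonalSubgroup K :=
  ((diag_fix hK).ge (Subgroup.mem_map_of_mem _ (supp_mem hK c d))).1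

theorem tF_mul (c d c' d' : Kˣ) : tF hK c d * tF hK c' d' = tF hK (c * c') (d * d') := by
  refine Subtype.ext ?_
  show torusHom T4 K (supp m c d) * torusHom T4 K (supp m c' d') = torusHom T4 K (supp m (c * c') (d * d'))
  rw [← map_mul]
  congr 1
  have key : ∀ i : Fin 4, supp m c d i * supp m c' d' i = supp m (c * c') (d * d') i := fun i => by
    fin_cases i <;> simp [supp, mul_pow]
  exact funext key

theorem tF_inj {c d c' d' : Kˣ} (h : tF hK c d = tF hK c' d') : c = c' ∧ d = d' := by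
  have h1 := torusHom_injective_of_smith Data.F4.valid Data.F4.chkSmith (by decide) (congrArg Subtype.val h)
  exact ⟨congrFun h1 (3 : Fin 4), congrFun h1 (2 : Fin 4)⟩

theorem tF_one : tF hK 1 1 = 1 := by
  have := tF_mul hK 1 1 1 1
  rw [one_mul] at this
  exact mul_eq_left.mp this

theorem tF_inv (c d : Kˣ) : (tF hK c d)⁻¹ = tF hK c⁻¹ d⁻¹ :=
  inv_eq_of_mul_eq_one_right (by rw [tF_mul, mul_inv_cancel, mul_inv_cancel, tF_one])

theorem exists_tF {h : ↥(S hK).fix} (hh : (h : GL (T4).I K) ∈ (T4).datum.diagonalSubgroup K) :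
    ∃ c d, h = tF hK c d := by
  obtain ⟨f, hf, e⟩ := (diag_fix hK).le (Subgroup.mem_inf.mpr ⟨hh, h.2⟩)
  obtain ⟨h0, h1⟩ := (mem_tauFix hK).mp hf
  refine ⟨f (3 : Fin 4), f (2 : Fin 4), Subtype.ext (e.symm.trans (congrArg (torusHom T4 K) ?_))⟩
  exact funext fun (i : Fin 4) => match i with
    | 0 => h0
    | 1 => h1
    | 2 => rfl
    | 3 => rfl

theorem pF_mul (t t' : K) : pF hK t * pF hK t' = pF hK (t + t') := Subtype.ext (pair_mul hK (by simp) t t')

theorem qF_mul (t u t' u' : K) :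
    qF hK t u * qF hK t' u' = qF hK (t + t') (u + u' + t ^ 2 ^ m * t') :=
  Subtype.ext (quad_mul hK quadPos t u t' u')

theorem qF_zero : qF hK 0 0 = 1 := Subtype.ext (quad_zero hK quadPos)

theorem qF_sq (t u : K) : qF hK t u * qF hK t u = qF hK 0 (t ^ (2 ^ m + 1)) := by
  rw [qF_mul]
  congr 1
  · linear_combination t * two_eq_zero hK
  · rw [pow_succ]; linear_combination u * two_eq_zero hK

theorem pF_inj {t t' : K} (h : pF hK t = pF hK t') : t = t' := by
  have := gprod_inj Data.F4.valid Data.F4.chkComm (L := [24, 33]) (by decide) (by decide +kernel)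
    (fun r => if r = 24 then t else t ^ 2 ^ m) (fun r => if r = 24 then t' else t' ^ 2 ^ m)
    (by simpa [pF, Twist.F4.pair, gprod] using congrArg Subtype.val h) 24 (by simp)
  simpa using this

theorem qF_inj {t u t' u' : K} (h : qF hK t u = qF hK t' u') : t = t' ∧ u = u' := by
  have := gprod_inj Data.F4.valid Data.F4.chkComm (L := [25, 27, 28, 30]) (by decide) (by decide +kernel)
    (fun r => if r = 25 then t else if r = 27 then t ^ 2 ^ m else if r = 28 then u else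
      t ^ (2 * 2 ^ m + 1) + u ^ (2 * 2 ^ m))
    (fun r => if r = 25 then t' else if r = 27 then t' ^ 2 ^ m else if r = 28 then u' else
      t' ^ (2 * 2 ^ m + 1) + u' ^ (2 * 2 ^ m))
    (by simpa [qF, quad, gprod] using congrArg Subtype.val h)
  exact ⟨by simpa using this 25 (by simp), by simpa using this 28 (by simp)⟩

/-- `a`, `b` are the scalars of `h` on the two classes. -/
def Wt (h : ↥(S hK).fix) (a b : Kˣ) : Prop :=
  (∀ t, h * pF hK t * h⁻¹ = pF hK ((a : K) * t)) ∧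
    ∀ t u, h * qF hK t u * h⁻¹ = qF hK ((b : K) * t) ((b : K) ^ (2 ^ m + 1) * u)

theorem Wt.unique {h : ↥(S hK).fix} {a b a' b' : Kˣ} (w : Wt hK h a b) (w' : Wt hK h a' b') :
    a = a' ∧ b = b' := by
  constructor
  · refine Units.ext ?_
    have := pF_inj hK ((w.1 1).symm.trans (w'.1 1))
    rwa [mul_one, mul_one] at this
  · refine Units.ext ?_
    have := (qF_inj hK ((w.2 1 0).symm.trans (w'.2 1 0))).1
    rwa [mul_one, mul_one] at this

theorem tF_wt1 (c : Kˣ) : Wt hK (tF hK c 1) (c ^ 2) c⁻¹ := by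
  refine ⟨fun t => Subtype.ext ?_, fun t u => Subtype.ext ?_⟩
  · rw [Units.val_pow_eq_pow_val]
    exact conj_pair hK c t
  · rw [Units.val_inv_eq_inv_val, inv_pow]
    exact conj_quad hK c t u

theorem exists_wt {h : ↥(S hK).fix} (hh : (h : GL (T4).I K) ∈ (T4).datum.diagonalSubgroup K) :
    ∃ a b, Wt hK h a b := by
  have hT : (T4).Valid := Data.F4.valid
  obtain ⟨χ, hχ, e⟩ := diag_exists_char hT hh
  obtain ⟨⟨a24, a33⟩, a25, a27, a28, a30⟩ := pos_lt
  have hmem : ∀ (j : Fin 2) (x : GL (T4).I K), x ∈ (S hK).Uw ((S hK).wJ (O hK) j) →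
      (h : GL (T4).I K) * x * (h : GL (T4).I K)⁻¹ ∈ (S hK).Uw ((S hK).wJ (O hK) j) := fun j x hx =>
    Subgroup.mem_inf.mpr ⟨mul_mem (mul_mem h.2 (Subgroup.mem_inf.mp hx).1) (inv_mem h.2),
      (Subgroup.mem_normalizer_iff.mp (diag_le_normalizer hT _ hh) x).mp (Subgroup.mem_inf.mp hx).2⟩
  have hp : ∀ t, h * pF hK t * h⁻¹ = pF hK ((χ 24 : K) * t) := by
    intro t
    obtain ⟨t', ht'⟩ := exists_pair hK (hmem 0 _ (pair_mem_Uw hK t))
    have ht2 := ht'
    rw [e, Twist.F4.pair, Twist.F4.pair, dU_mul_gprod hK hχ _ (by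
      intro p hp
      simp only [List.mem_cons, List.not_mem_nil, or_false] at hp
      rcases hp with rfl | rfl <;> assumption)] at ht2
    have := gprod_inj hT Data.F4.chkComm (L := [24, 33]) (by decide) (by decide +kernel)
      (fun r => if r = 24 then (χ 24 : K) * t else (χ 33 : K) * t ^ 2 ^ m)
      (fun r => if r = 24 then t' else t' ^ 2 ^ m) (by simpa [gprod] using ht2) 24 (by simp)
    simp only [if_true] at this
    exact Subtype.ext (ht'.trans (congrArg (Twist.F4.pair m 33 24) this.symm))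
  have hq : ∀ t u, h * qF hK t u * h⁻¹ = qF hK ((χ 25 : K) * t) ((χ 28 : K) * u) := by
    intro t u
    obtain ⟨t', u', ht'⟩ := exists_quad hK (hmem 1 _ (quad_mem_Uw hK t u))
    have ht2 := ht'
    rw [e, quad, quad, dU_mul_gprod hK hχ _ (by
      intro p hp
      simp only [List.mem_cons, List.not_mem_nil, or_false] at hp
      rcases hp with rfl | rfl | rfl | rfl <;> assumption)] at ht2
    have := gprod_inj hT Data.F4.chkComm (L := [25, 27, 28, 30]) (by decide) (by decide +kernel)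
      (fun r => if r = 25 then (χ 25 : K) * t else if r = 27 then (χ 27 : K) * t ^ 2 ^ m else
        if r = 28 then (χ 28 : K) * u else (χ 30 : K) * (t ^ (2 * 2 ^ m + 1) + u ^ (2 * 2 ^ m)))
      (fun r => if r = 25 then t' else if r = 27 then t' ^ 2 ^ m else if r = 28 then u' else
        t' ^ (2 * 2 ^ m + 1) + u' ^ (2 * 2 ^ m)) (by simpa [gprod] using ht2)
    have k1 : (χ 25 : K) * t = t' := by simpa using this 25 (by simp)
    have k2 : (χ 28 : K) * u = u' := by simpa using this 28 (by simp)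
    rw [k1, k2]
    exact Subtype.ext ht'
  have h28 : (χ 28 : K) = (χ 25 : K) ^ (2 ^ m + 1) := by
    have e1 : h * (qF hK 1 0 * qF hK 1 0) * h⁻¹ = qF hK (χ 25 : K) 0 * qF hK (χ 25 : K) 0 := by
      have := hq 1 0
      rw [mul_one, mul_zero] at this
      rw [← this]; group
    rw [qF_sq, qF_sq, one_pow, hq, mul_zero, mul_one] at e1
    exact (qF_inj hK e1).2
  exact ⟨χ 24, χ 25, hp, fun t u => by rw [hq, h28]⟩

theorem eq_one_of_wt {h : ↥(S hK).fix} (hh : (h : GL (T4).I K) ∈ (T4).datum.diagonalSubgroup K)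
    (w : Wt hK h 1 1) : h = 1 := by
  have hT : (T4).Valid := Data.F4.valid
  obtain ⟨χ, hχ, e⟩ := diag_exists_char hT hh
  obtain ⟨⟨a24, a33⟩, a25, a27, a28, a30⟩ := pos_lt
  have l1 : ∀ p ∈ [(24, (1 : K)), (33, (1 : K) ^ 2 ^ m)], p.1 < (T4).n := by
    intro p hp
    simp only [List.mem_cons, List.not_mem_nil, or_false] at hp
    rcases hp with rfl | rfl <;> assumption
  have l2 : ∀ p ∈ [(25, (1 : K)), (27, (1 : K) ^ 2 ^ m), (28, (0 : K)),
      (30, (1 : K) ^ (2 * 2 ^ m + 1) + (0 : K) ^ (2 * 2 ^ m))], p.1 < (T4).n := by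
    intro p hp
    simp only [List.mem_cons, List.not_mem_nil, or_false] at hp
    rcases hp with rfl | rfl | rfl | rfl <;> assumption
  have e1 : (h : GL (T4).I K) * Twist.F4.pair m 33 24 1 * (h : GL (T4).I K)⁻¹ = Twist.F4.pair m 33 24 ((1 : K) * 1) :=
    congrArg Subtype.val (w.1 1)
  have e2 : (h : GL (T4).I K) * quad m 27 25 28 30 1 0 * (h : GL (T4).I K)⁻¹ =
      quad m 27 25 28 30 ((1 : K) * 1) ((1 : K) ^ (2 ^ m + 1) * 0) := congrArg Subtype.val (w.2 1 0)
  rw [one_mul, e, Twist.F4.pair, dU_mul_gprod hK hχ _ l1] at e1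
  rw [one_mul, mul_zero, e, quad, dU_mul_gprod hK hχ _ l2] at e2
  have h0 : (2 * 2 ^ m) ≠ 0 := by positivity
  have k1 := gprod_inj hT Data.F4.chkComm (L := [24, 33]) (by decide) (by decide +kernel)
    (fun r => (χ r : K)) (fun _ => 1) (by simpa [gprod] using e1)
  have k2 := gprod_inj hT Data.F4.chkComm (L := [25, 27, 28, 30]) (by decide) (by decide +kernel)
    (fun r => if r = 28 then 0 else (χ r : K)) (fun r => if r = 28 then 0 else 1)
    (by simpa [gprod, h0] using e2)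
  refine Subtype.ext (e.trans (dU_eq_one_of_simple hT hχ fun i hi => Units.ext ?_))
  have hs : ∀ i < (T4).rank, (T4).simple i ∈ [24, 33] ∨ (T4).simple i = 25 ∨ (T4).simple i = 27 := by
    decide +kernel
  rcases hs i hi with h' | h' | h'
  · exact k1 _ h'
  · rw [h']; simpa using k2 25 (by simp)
  · rw [h']; simpa using k2 27 (by simp)

theorem Wt.inj {h h' : ↥(S hK).fix} (hh : (h : GL (T4).I K) ∈ (T4).datum.diagonalSubgroup K)
    (hh' : (h' : GL (T4).I K) ∈ (T4).datum.diagonalSubgroup K) {a b : Kˣ} (w : Wt hK h a b)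
    (w' : Wt hK h' a b) : h = h' := by
  refine (inv_mul_eq_one.mp (eq_one_of_wt hK (mul_mem (inv_mem hh') hh) ⟨fun t => ?_, fun t u => ?_⟩)).symm
  · calc h'⁻¹ * h * pF hK t * (h'⁻¹ * h)⁻¹ = h'⁻¹ * (h * pF hK t * h⁻¹) * h' := by group
      _ = h'⁻¹ * (h' * pF hK t * h'⁻¹) * h' := by rw [w.1, w'.1]
      _ = pF hK (((1 : Kˣ) : K) * t) := by rw [Units.val_one, one_mul]; group
  · calc h'⁻¹ * h * qF hK t u * (h'⁻¹ * h)⁻¹ = h'⁻¹ * (h * qF hK t u * h⁻¹) * h' := by group
      _ = h'⁻¹ * (h' * qF hK t u * h'⁻¹) * h' := by rw [w.2, w'.2]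
      _ = qF hK (((1 : Kˣ) : K) * t) (((1 : Kˣ) : K) ^ (2 ^ m + 1) * u) := by
        rw [Units.val_one, one_mul, one_pow, one_mul]; group

/-- Every pair of scalars comes from the torus. -/
theorem exists_of_wt (a b : Kˣ) :
    ∃ h : ↥(S hK).fix, (h : GL (T4).I K) ∈ (T4).datum.diagonalSubgroup K ∧ Wt hK h a b := by
  choose A B hAB using fun p : Kˣ × Kˣ => exists_wt hK (tF_diag hK p.1 p.2)
  have hinj : Function.Injective fun p => (A p, B p) := fun p p' e => by
    obtain ⟨e1, e2⟩ := Prod.mk.inj e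
    have := tF_inj hK (Wt.inj hK (tF_diag hK _ _) (tF_diag hK _ _) (hAB p) (e1 ▸ e2 ▸ hAB p'))
    exact Prod.ext this.1 this.2
  obtain ⟨p, hp⟩ := (Finite.injective_iff_surjective.mp hinj) (a, b)
  obtain ⟨rfl, rfl⟩ := Prod.mk.inj hp
  exact ⟨_, tF_diag hK p.1 p.2, hAB p⟩

/-- An element of the pair inverts exactly the part of the torus on the pair. -/
theorem conj_tF {n : ↥(S hK).fix} (hn : (n : GL (T4).I K) ∈ (T4).datum.monomialSubgroup K)
    (hm : (T4).Mono (n : GL (T4).I K) ((S hK).wJ (O hK) (0 : Fin 2))) (c d : Kˣ) :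
    n * tF hK c d * n⁻¹ = tF hK (c⁻¹ * d) d := by
  have hT : (T4).Valid := Data.F4.valid
  have hw : ∀ r < (T4).n, (T4).ca 0 ((T4).actWord (Data.F4.orbWords.getD 0 []) r) = -(T4).ca 0 r ∧
      (T4).ca 1 ((T4).actWord (Data.F4.orbWords.getD 0 []) r) = (T4).ca 1 r + (T4).ca 0 r ∧
      (T4).ca 2 ((T4).actWord (Data.F4.orbWords.getD 0 []) r) = (T4).ca 2 r + (T4).ca 3 r ∧
      (T4).ca 3 ((T4).actWord (Data.F4.orbWords.getD 0 []) r) = -(T4).ca 3 r := by decide +kernel
  refine Subtype.ext ?_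
  have hd : (n : GL (T4).I K) * tF hK c d * (n : GL (T4).I K)⁻¹ ∈ (T4).datum.diagonalSubgroup K :=
    conj_diag hT hn (tF_diag hK c d)
  obtain ⟨ψ, hψ, e⟩ := diag_exists_char hT hd
  show (n : GL (T4).I K) * tF hK c d * (n : GL (T4).I K)⁻¹ = (tF hK (c⁻¹ * d) d : GL (T4).I K)
  rw [e]
  set χ : ℕ → Kˣ := fun s => ∏ i, supp m c d i ^ (T4).ca i s
  set χ' : ℕ → Kˣ := fun s => ∏ i, supp m (c⁻¹ * d) d i ^ (T4).ca i s
  show _ = (T4).dU χ'
  refine dU_congr fun s hs => ?_
  obtain ⟨r, hr⟩ := ((S hK).wJ (O hK) (0 : Fin 2)).surjective ⟨s, hs⟩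
  have hval : ((S hK).wJ (O hK) (0 : Fin 2) r).val = s := congrArg Fin.val hr
  obtain ⟨k, hk⟩ := hm.conj r
  have h2 : ((n : GL (T4).I K) * (T4).dU χ * (n : GL (T4).I K)⁻¹) * (T4).xU K s (k : K) =
      (T4).xU K s ((χ r.val : K) * k) * ((n : GL (T4).I K) * (T4).dU χ * (n : GL (T4).I K)⁻¹) := by
    have e2 : ∀ x : K, (T4).xU K s ((k : K) * x) = (n : GL (T4).I K) * (T4).xU K r.val x * (n : GL (T4).I K)⁻¹ :=
      fun x => by rw [(hk x).1, mul_inv_cancel_right, hval]
    rw [mul_comm (χ r.val : K), e2, show (T4).xU K s (k : K) = (T4).xU K s ((k : K) * 1) by rw [mul_one], e2]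
    calc (n : GL (T4).I K) * (T4).dU χ * (n : GL (T4).I K)⁻¹ *
          ((n : GL (T4).I K) * (T4).xU K r.val 1 * (n : GL (T4).I K)⁻¹)
        = (n : GL (T4).I K) * ((T4).dU χ * (T4).xU K r.val 1) * (n : GL (T4).I K)⁻¹ := by group
      _ = (n : GL (T4).I K) * ((T4).xU K r.val (χ r.val : K) * (T4).dU χ) * (n : GL (T4).I K)⁻¹ := by
        rw [dU_conj_X hT (isChar_prod hT _) r.2, mul_one]
      _ = _ := by group
  rw [show (n : GL (T4).I K) * (T4).dU χ * (n : GL (T4).I K)⁻¹ = (T4).dU ψ from e, dU_conj_X hT hψ hs] at h2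
  have h3 : ψ s = χ r.val := Units.ext (mul_right_cancel₀ k.ne_zero (xU_inj hT hs (mul_right_cancel h2)))
  rw [h3]
  obtain ⟨w0, w1, w2, w3⟩ := hw r.val r.2
  have ew := (data hK).orbits_wJ chk_orbits (0 : Fin 2) r
  rw [show (data hK).twist.wJ ((data hK).orbits chk_orbits) (0 : Fin 2) r =
    (S hK).wJ (O hK) (0 : Fin 2) r from rfl, hval] at ew
  show ∏ i : Fin 4, supp m c d i ^ (T4).ca i.val r.val =
    ∏ i : Fin 4, supp m (c⁻¹ * d) d i ^ (T4).ca i.val s
  rw [Fin.prod_univ_four, Fin.prod_univ_four, ew]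
  simp only [Fin.val_zero, Fin.val_one, show ((2 : Fin 4) : ℕ) = 2 from rfl, show ((3 : Fin 4) : ℕ) = 3 from rfl]
  erw [w0, w1, w2, w3]
  have alg : ∀ (C D c d : Kˣ) (a b x y : ℤ),
      C ^ a * D ^ b * d ^ x * c ^ y = (C⁻¹ * D) ^ (-a) * D ^ (b + a) * d ^ (x + y) * (c⁻¹ * d) ^ (-y) := by
    intro C D c d a b x y
    refine Units.ext ?_
    simp only [mul_zpow, zpow_neg, zpow_add, inv_zpow, inv_inv, Units.val_mul, Units.val_inv_eq_inv_val]
    field_simp
  simp only [supp, mul_pow, inv_pow]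
  exact alg _ _ _ _ _ _ _ _

end CfsgLib.KnownB.AutTw.F4
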