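import Cfsg.Agent.Lib.KnownB.AutTw.Base
import Cfsg.Agent.Lib.KnownB.Aut.OutGroup

/-!
Field automorphisms of fixed points, and general facts about normalised automorphisms.
-/

set_option autoImplicit false

namespace CfsgLib.KnownB.AutTw

open CfsgLib.Chevalley CfsgLib.Chevalley.Tbl CfsgLib.Chevalley.Tbl.Twist

variable {T : Tbl} {F : Type*} [Field F] (S : Twist T F)
  (hcm : ∀ (r : Fin T.n) (σ : F ≃+* F) (t : F), S.par r (σ t) = σ (S.par r t))
include hcm

/-- A field automorphism commutes with the twist. -/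
theorem fieldFun_twist (σ : F ≃+* F) (g : ↥(T.datum.group F)) :
    S.σ (Aut.fieldFun S.valid σ g) = Aut.fieldFun S.valid σ (S.σ g) := by
  have key : ∀ (r : Fin T.n) (t : F), (S.σ : MulAut ↥(T.datum.group F)) (Aut.xG S.valid r t) =
      Aut.xG S.valid (S.ρ r) (S.par r t) := fun r t => Subtype.ext (S.σ_x _ r t rfl)
  have h : (S.σ : MulAut ↥(T.datum.group F)) * Aut.fieldFun S.valid σ =
      Aut.fieldFun S.valid σ * (S.σ : MulAut ↥(T.datum.group F)) :=
    Aut.aut_ext S.valid fun i t => by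
      simp only [MulAut.mul_apply, Aut.fieldFun_x, key, hcm, and_self]
  exact DFunLike.congr_fun h g

/-- The field automorphism on the fixed points, as a homomorphism. -/
noncomputable def fieldEnd (σ : F ≃+* F) : ↥S.fix →* ↥S.fix :=
  (((T.datum.group F).subtype.comp (Aut.fieldFun S.valid σ).toMonoidHom).comp
    (Subgroup.inclusion (show S.fix ≤ T.datum.group F from fun _ h => h.1))).codRestrict _ fun g => by
    refine ⟨(Aut.fieldFun S.valid σ ⟨g, g.2.1⟩).2, ?_⟩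
    show S.sg (Aut.fieldFun S.valid σ ⟨g, g.2.1⟩ : GL T.I F) = _
    rw [S.sg_eq (Subtype.prop _), Subtype.coe_eta, fieldFun_twist S hcm]
    refine congrArg Subtype.val (congrArg _ (Subtype.ext ?_))
    rw [← S.sg_eq g.2.1]
    exact g.2.2

theorem fieldEnd_val (σ : F ≃+* F) (g : ↥S.fix) :
    (fieldEnd S hcm σ g : GL T.I F) = Aut.fieldFun S.valid σ ⟨g, g.2.1⟩ := rfl

theorem fieldEnd_comp (σ τ : F ≃+* F) (g : ↥S.fix) :
    fieldEnd S hcm σ (fieldEnd S hcm τ g) = fieldEnd S hcm (σ * τ) g :=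
  Subtype.ext (congrArg (fun x : ↥(T.datum.group F) => (x : GL T.I F))
    (DFunLike.congr_fun (map_mul (Aut.fieldAutHom S.valid) σ τ) ⟨g, g.2.1⟩).symm)

theorem fieldEnd_one (g : ↥S.fix) : fieldEnd S hcm 1 g = g :=
  Subtype.ext (congrArg (fun x : ↥(T.datum.group F) => (x : GL T.I F))
    (DFunLike.congr_fun (map_one (Aut.fieldAutHom (F := F) S.valid)) ⟨g, g.2.1⟩))

/-- The field automorphisms of the fixed points. -/
noncomputable def fieldTw : (F ≃+* F) →* MulAut ↥S.fix where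
  toFun σ :=
    { toFun := fieldEnd S hcm σ
      invFun := fieldEnd S hcm σ⁻¹
      left_inv := fun g => by rw [fieldEnd_comp, inv_mul_cancel, fieldEnd_one]
      right_inv := fun g => by rw [fieldEnd_comp, mul_inv_cancel, fieldEnd_one]
      map_mul' := map_mul (fieldEnd S hcm σ) }
  map_one' := MulEquiv.ext (fieldEnd_one S hcm)
  map_mul' σ τ := MulEquiv.ext fun g => (fieldEnd_comp S hcm σ τ g).symm

theorem fieldTw_val (σ : F ≃+* F) (g : ↥S.fix) :
    (fieldTw S hcm σ g : GL T.I F) = Aut.fieldFun S.valid σ ⟨g, g.2.1⟩ := rfl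

variable [Finite F]

theorem fieldTw_normTw (σ : F ≃+* F) : NormTw S (fieldTw S hcm σ) := by
  have hψ : Aut.Norm (Aut.fieldFun S.valid σ) := Aut.field_mem_NS S.valid σ
  constructor <;>
    refine Subgroup.eq_of_le_of_card_ge ?_
      (le_of_eq (Subgroup.card_map_of_injective (fieldTw S hcm σ).injective).symm)
  · rintro _ ⟨y, hy, rfl⟩
    exact hψ.mapU.le ⟨⟨y, y.2.1⟩, hy, rfl⟩
  · rintro _ ⟨y, hy, rfl⟩
    exact hψ.mapV.le ⟨⟨y, y.2.1⟩, hy, rfl⟩

omit hcm

variable {S} {O : Orbits T S.valid S.ρ} (hV : S.VHyp O)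

omit [Finite F] in
theorem NormTw.mul {θ θ' : MulAut ↥S.fix} (h : NormTw S θ) (h' : NormTw S θ') : NormTw S (θ * θ') := by
  have e : ∀ H : Subgroup ↥S.fix, H.map (θ * θ').toMonoidHom = (H.map θ'.toMonoidHom).map θ.toMonoidHom :=
    fun H => by rw [Subgroup.map_map]; rfl
  exact ⟨by rw [e, h'.mapU, h.mapU], by rw [e, h'.mapV, h.mapV]⟩

omit [Finite F] in
theorem conj_diag_normTw {x : ↥S.fix} (hx : (x : GL T.I F) ∈ T.datum.diagonalSubgroup F) :
    NormTw S (MulAut.conj x) :=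
  ⟨Aut.map_conj_of_mem (B1_le_normalizer (Subgroup.mem_subgroupOf.mpr (Subgroup.mem_sup_right hx))),
    Aut.map_conj_of_mem (diag_normalizes_V1 hx)⟩

include hV

omit [Finite F] in
/-- A normalised automorphism preserves the fixed diagonal elements. -/
theorem map_diag_mem {θ : MulAut ↥S.fix} (h : NormTw S θ) {x : ↥S.fix}
    (hx : (x : GL T.I F) ∈ T.datum.diagonalSubgroup F) :
    (θ x : GL T.I F) ∈ T.datum.diagonalSubgroup F := by
  refine mem_diag_of_normTw (O := O) hV ⟨?_, ?_⟩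
  · conv_lhs => rw [← h.mapU]
    rw [← Aut.map_conj_normal, (conj_diag_normTw hx).mapU, h.mapU]
  · conv_lhs => rw [← h.mapV]
    rw [← Aut.map_conj_normal, (conj_diag_normTw hx).mapV, h.mapV]

omit [Finite F] in
/-- An element `q n u` of `V₁` is fixed, with `n`, once `q`, `u` are fixed and `n⁻¹ θ n` lies in `B₁`. -/
theorem fix_neg_elt {θ : MulAut ↥S.fix} (h : NormTw S θ) {v q n u : ↥S.fix} (hv : v ∈ V1 S)
    (e : v = q * n * u) (hu : u ∈ B1 S) (hq' : θ q = q) (hu' : θ u = u) (hn : n⁻¹ * θ n ∈ B1 S) :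
    θ n = n ∧ θ v = v := by
  have hv' : θ v ∈ V1 S := h.mapV.le ⟨v, hv, rfl⟩
  have e2 : v⁻¹ * θ v = u⁻¹ * (n⁻¹ * θ n) * u := by
    rw [e, map_mul, map_mul, hq', hu']
    group
  have h1 : v⁻¹ * θ v = 1 := Subgroup.mem_bot.mp (B1_inf_V1.le (Subgroup.mem_inf.mpr
    ⟨e2 ▸ mul_mem (mul_mem (inv_mem hu) hn) hu, mul_mem (inv_mem hv) hv'⟩))
  have h2 : n⁻¹ * θ n = 1 := by
    rw [h1] at e2
    have : n⁻¹ * θ n = u * (u⁻¹ * (n⁻¹ * θ n) * u) * u⁻¹ := by group
    rw [this, ← e2]; group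
  exact ⟨(inv_mul_eq_one.mp h2).symm, (inv_mul_eq_one.mp h1).symm⟩

end CfsgLib.KnownB.AutTw
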