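import Cfsg.Agent.Lib.KnownB.AutTw.Field
import Cfsg.Agent.Lib.Chevalley.Twist.G2Extra
import Cfsg.Agent.Lib.Chevalley.Twist.G2Action
import Cfsg.Agent.Lib.Chevalley.Twist.G2Points
import Cfsg.Agent.Lib.KnownC.AutPSL.Outer

/-!
The automorphisms of ²G₂.
-/

set_option autoImplicit false
set_option maxRecDepth 20000
set_option Elab.async false

namespace CfsgLib.KnownB.AutTw.G2

open CfsgLib.Chevalley CfsgLib.Chevalley.Tbl CfsgLib.Chevalley.Twist.G2

local notation "T2" => Data.G2.tbl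

variable {K : Type*} [Field K] [Finite K] {m : ℕ} (hK : Nat.card K = 3 ^ (2 * m + 1))
include hK

theorem par_comm (r : Fin (T2).n) (σ : K ≃+* K) (t : K) : (S hK).par r (σ t) = σ ((S hK).par r t) := by
  show (_ : K) * theta hK (σ t) ^ _ = σ (_ * theta hK t ^ _)
  rw [theta_apply, theta_apply, map_mul, map_pow, map_pow, map_intCast]

/-- The field automorphisms. -/
noncomputable def fieldG2 : (K ≃+* K) →* MulAut ↥(S hK).fix := fieldTw (S hK) (par_comm hK)

/-- The fixed unipotent element with parameters `t`, `u`, `v`. -/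
noncomputable def rF (t u v : K) : ↥(S hK).fix := ⟨ree m t u v, ree_fix hK t u v⟩

theorem rF_mem (t u v : K) : rF hK t u v ∈ U1 (S hK) :=
  Subgroup.mem_subgroupOf.mpr (ree_mem_pos hK t u v).1

theorem exists_rF {g : ↥(S hK).fix} (hg : g ∈ U1 (S hK)) : ∃ t u v, g = rF hK t u v := by
  obtain ⟨t, u, v, e⟩ := exists_pos hK (Subgroup.mem_inf.mpr ⟨Subgroup.mem_subgroupOf.mp hg, g.2⟩)
  exact ⟨t, u, v, Subtype.ext e⟩

theorem rF_inj {t u v t' u' v' : K} (h : rF hK t u v = rF hK t' u' v') : t = t' ∧ u = u' ∧ v = v' :=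
  ree_inj hK (congrArg Subtype.val h)

theorem hF_conj (c : Kˣ) (t u v : K) : hF hK c * rF hK t u v * (hF hK c)⁻¹ =
    rF hK ((c : K) ^ 2 * ((c : K) ^ (3 * 3 ^ m))⁻¹ * t) ((c : K) ^ (3 * 3 ^ m) * (c : K)⁻¹ * u) (c * v) :=
  Subtype.ext (conj_hd hK c t u v)

theorem neg_one_conj (t u v : K) :
    hF hK (-1) * rF hK t u v * (hF hK (-1))⁻¹ = rF hK (-t) u (-v) := by
  have hodd : Odd (3 * 3 ^ m) := (by decide : Odd 3).mul (Odd.pow (by decide))
  rw [hF_conj]
  simp [hodd.neg_one_pow]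

theorem two_ne : (2 : K) ≠ 0 := fun h => by
  have h3 := three_eq_zero hK
  exact one_ne_zero (show (1 : K) = 0 by linear_combination h3 - h)

theorem eq_zero_of_neg {a : K} (h : -a = a) : a = 0 :=
  (mul_eq_zero.mp (show (2 : K) * a = 0 by linear_combination -h)).resolve_left (two_ne hK)

theorem rF0_mul (u v u' v' : K) : rF hK 0 u v * rF hK 0 u' v' = rF hK 0 (u + u') (v + v') :=
  Subtype.ext (ree0_mul hK u v u' v')

theorem rF_one : rF hK 0 0 0 = 1 := Subtype.ext (ree0_one hK)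

theorem rF_factor (t u v : K) : rF hK t u v = rF hK t 0 0 * rF hK 0 u v := Subtype.ext (ree_factor hK t u v)

theorem e_ne : (3 : ℕ) ^ m ≠ 0 ∧ 3 * 3 ^ m + 1 ≠ 0 ∧ 3 * 3 ^ m + 2 ≠ 0 :=
  ⟨by positivity, by positivity, by positivity⟩

/-- Moving an element with `t = 0` past another. -/
theorem rF_swap (t f g u v : K) :
    rF hK 0 u v * rF hK t f g = rF hK t f g * rF hK 0 u v * rF hK 0 0 (-(t * u)) := by
  obtain ⟨h0, h1, h2⟩ := e_ne hK
  have h3 := three_eq_zero hK
  refine Subtype.ext ?_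
  show ree m 0 u v * ree m t f g = ree m t f g * ree m 0 u v * ree m 0 0 (-(t * u))
  simp only [ree_eq_quad, quad_mul hK, zero_pow h0, zero_pow h1, zero_pow h2]
  rw [Odd.neg_pow (Odd.pow (by decide : Odd 3)), mul_pow]
  congr 1 <;> first | linear_combination (u ^ 3 ^ m * t ^ 3 ^ m) * h3 | ring

/-- Two facts about a normalised automorphism fixing the centre of `U₁` and the torus. -/
theorem fix_U1 {θ : MulAut ↥(S hK).fix} (hm : 1 ≤ m) (h : NormTw (S hK) θ)
    (hZ : ∀ v, θ (rF hK 0 0 v) = rF hK 0 0 v) (hH : ∀ c, θ (hF hK c) = hF hK c) :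
    ∀ g ∈ U1 (S hK), θ g = g := by
  obtain ⟨h0, h1, h2⟩ := e_ne hK
  have h3 := three_eq_zero hK
  have hmap : ∀ t u v, ∃ t' u' v', θ (rF hK t u v) = rF hK t' u' v' := fun t u v =>
    exists_rF hK (h.mapU.le ⟨_, rF_mem hK t u v, rfl⟩)
  have hu : ∀ u, ∃ β, θ (rF hK 0 u 0) = rF hK 0 β 0 := by
    intro u
    obtain ⟨t', u', v', e⟩ := hmap 0 u 0
    have e1 := congrArg θ (neg_one_conj hK 0 u 0)
    rw [neg_zero, map_mul, map_mul, map_inv, hH, e, neg_one_conj] at e1
    obtain ⟨a, -, b⟩ := rF_inj hK e1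
    rw [eq_zero_of_neg hK a, eq_zero_of_neg hK b] at e
    exact ⟨u', e⟩
  choose β hβ using hu
  choose α f g hα using fun t => hmap t 0 0
  have hprod : ∀ t u, α t * β u = t * u := by
    intro t u
    have e := congrArg θ (rF_swap hK t 0 0 u 0)
    rw [map_mul, map_mul, map_mul, hα, hβ, hZ, rF_swap] at e
    have := (rF_inj hK (mul_left_cancel e)).2.2
    linear_combination -this
  have hβ1 : β 1 ≠ 0 := fun e => one_ne_zero (α := K) (by
    have := hprod 1 1; rwa [e, mul_zero, mul_one, eq_comm] at this)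
  set k := α 1 with hk
  have hkβ : k * β 1 = 1 := by rw [hprod, mul_one]
  have hk0 : k ≠ 0 := fun e => by rw [e, zero_mul] at hkβ; exact zero_ne_one hkβ
  have hαk : ∀ t, α t = k * t := fun t => mul_right_cancel₀ hβ1 (by
    rw [hprod, mul_one, mul_right_comm, hkβ, one_mul])
  -- cubes
  have hcube : ∀ t u v, ∃ w, rF hK t u v ^ 3 = rF hK 0 0 w ∧ w ^ 3 ^ m = -(t * (t ^ 3 ^ m) ^ 2) := by
    intro t u v
    have hmem : rF hK t u v ^ 3 ∈ U1 (S hK) := pow_mem (rF_mem hK t u v) 3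
    obtain ⟨a, b, c, e⟩ := exists_rF hK hmem
    have ev : ree m t u v * ree m t u v * ree m t u v = ree m a b c := by
      have := congrArg Subtype.val e
      rw [pow_succ, pow_two] at this
      exact this
    rw [ree_eq_quad, quad_mul hK, quad_mul hK, ree_eq_quad] at ev
    obtain ⟨ea, -, eA, eB, -, -⟩ := quad_inj ev
    have ha : a = 0 := by linear_combination -ea + t * h3
    subst ha
    have hb : b = 0 := eq_zero_of_pow_eq_zero (n := 3 ^ m) (by
      linear_combination -eA + ((u ^ 3 ^ m : K) - t * t ^ 3 ^ m) * h3)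
    subst hb
    exact ⟨c, e, by
      linear_combination -eB + ((v ^ 3 ^ m : K) + 2 * u ^ 3 ^ m * t ^ 3 ^ m - 4 * t * (t ^ 3 ^ m) ^ 2) * h3⟩
  have hk1 : k = 1 := by
    obtain ⟨w, e, hw⟩ := hcube 1 0 0
    obtain ⟨w', e', hw'⟩ := hcube k (f 1) (g 1)
    have e2 := congrArg θ e
    rw [map_pow, hα, hZ, ← hk, e'] at e2
    rw [(rF_inj hK e2).2.2, hw, one_pow, one_pow, one_mul] at hw'
    have hA : k * (k ^ 3 ^ m) ^ 2 = 1 := by linear_combination hw'
    have hB : (k ^ 3 ^ m) ^ 3 * k ^ 2 = 1 := by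
      have := congrArg (· ^ (3 * 3 ^ m)) hA
      rw [one_pow, mul_pow, ← pow_mul (k ^ 3 ^ m) 2, mul_comm 2, pow_mul (k ^ 3 ^ m), pow_theta hK,
        show k ^ (3 * 3 ^ m) = (k ^ 3 ^ m) ^ 3 by rw [← pow_mul, mul_comm]] at this
      exact this
    have hC : k ^ 3 ^ m = 1 := mul_left_cancel₀ (a := (k ^ 3 ^ m) ^ 3 * k ^ 2)
      (mul_ne_zero (pow_ne_zero _ (pow_ne_zero _ hk0)) (pow_ne_zero _ hk0))
      (by linear_combination (k * (k ^ 3 ^ m) ^ 2 + 1) * hA - hB)
    rw [hC, one_pow, mul_one] at hA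
    exact hA
  have hαid : ∀ t, α t = t := fun t => by rw [hαk, hk1, one_mul]
  have hβid : ∀ u, β u = u := fun u => by
    have := hprod 1 u
    rwa [hαid, one_mul, one_mul] at this
  have hall0 : ∀ u v, θ (rF hK 0 u v) = rF hK 0 u v := fun u v => by
    have e : rF hK 0 u v = rF hK 0 u 0 * rF hK 0 0 v := by rw [rF0_mul, add_zero, zero_add]
    rw [e, map_mul, hβ, hβid, hZ]
  -- products of two elements with `u = v = 0`
  have htt : ∀ t s, ∃ U V, rF hK t 0 0 * rF hK s 0 0 = rF hK (t + s) 0 0 * rF hK 0 U V := by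
    intro t s
    obtain ⟨a, b, c, e⟩ := exists_rF hK (mul_mem (rF_mem hK t 0 0) (rF_mem hK s 0 0))
    have ha := ree_mul_fst hK t 0 0 s 0 0 a b c (congrArg Subtype.val e)
    exact ⟨b, c, by rw [e, ha]; exact rF_factor hK _ b c⟩
  have hα' : ∀ t, θ (rF hK t 0 0) = rF hK t 0 0 * rF hK 0 (f t) (g t) := fun t => by
    rw [hα, hαid, rF_factor]
  have hadd : ∀ t s, f (t + s) = f t + f s ∧ g (t + s) = g t + g s + -(s * f t) := by
    intro t s
    obtain ⟨U, V, e⟩ := htt t s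
    have e1 := congrArg θ e
    rw [map_mul, map_mul, hα', hα', hα', hall0] at e1
    have e2 : rF hK t 0 0 * rF hK 0 (f t) (g t) * (rF hK s 0 0 * rF hK 0 (f s) (g s)) =
        rF hK (t + s) 0 0 * rF hK 0 (U + f t + 0 + f s) (V + g t + -(s * f t) + g s) := by
      calc rF hK t 0 0 * rF hK 0 (f t) (g t) * (rF hK s 0 0 * rF hK 0 (f s) (g s))
          = rF hK t 0 0 * (rF hK 0 (f t) (g t) * rF hK s 0 0) * rF hK 0 (f s) (g s) := by group
        _ = rF hK t 0 0 * rF hK s 0 0 * rF hK 0 (f t) (g t) * rF hK 0 0 (-(s * f t)) *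
            rF hK 0 (f s) (g s) := by rw [rF_swap]; group
        _ = rF hK (t + s) 0 0 * (rF hK 0 U V * rF hK 0 (f t) (g t) * rF hK 0 0 (-(s * f t)) *
            rF hK 0 (f s) (g s)) := by rw [e]; group
        _ = _ := by rw [rF0_mul, rF0_mul, rF0_mul]
    rw [e2, mul_assoc, rF0_mul] at e1
    obtain ⟨-, eu, ev⟩ := rF_inj hK (mul_left_cancel e1)
    exact ⟨by linear_combination -eu, by linear_combination -ev⟩
  have hf : ∀ t, f t = 0 := by
    intro t
    have hz : f 0 = 0 := by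
      have := (hadd 0 0).1
      rw [add_zero] at this
      linear_combination -this
    have h1' := (hadd t (-t)).1
    rw [add_neg_cancel, hz] at h1'
    have e1 := congrArg θ (neg_one_conj hK t 0 0)
    rw [neg_zero, map_mul, map_mul, map_inv, hH, hα, hα, hαid, hαid, neg_one_conj] at e1
    have := (rF_inj hK e1).2.1
    exact eq_zero_of_neg hK (by linear_combination h1' - this)
  have hgadd : ∀ t s, g (t + s) = g t + g s := fun t s => by
    rw [(hadd t s).2, hf, mul_zero, neg_zero, add_zero]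
  -- equivariance
  have hg : ∀ t : K, g t = t ^ (3 * 3 ^ m + 2) * g 1 := by
    intro t
    by_cases ht : t = 0
    · subst ht
      rw [zero_pow h2, zero_mul]
      have := hgadd 0 0
      rw [add_zero] at this
      linear_combination -this
    set c : Kˣ := Units.mk0 (t ^ (3 * 3 ^ m + 2)) (pow_ne_zero _ ht) with hc
    have ha : (c : K) ^ 2 * ((c : K) ^ (3 * 3 ^ m))⁻¹ = t := by
      have hr : (c : K) ^ (3 * 3 ^ m) = t ^ 3 * (t ^ (3 * 3 ^ m)) ^ 2 := by
        rw [hc, Units.val_mk0, pow_add, mul_pow, ← pow_mul t 2, mul_comm 2 (3 * 3 ^ m), pow_mul t _ 2]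
        congr 1
        rw [← pow_mul, show 3 * 3 ^ m * (3 * 3 ^ m) = 3 ^ m * (3 * 3 ^ m) * 3 by ring, pow_mul, pow_mul t (3 ^ m),
          pow_theta hK]
      rw [hr, hc, Units.val_mk0, pow_add]
      field_simp
    have e1 := congrArg θ (hF_conj hK c 1 0 0)
    rw [mul_zero, mul_zero, mul_one, ha, map_mul, map_mul, map_inv, hH, hα, hαid, hF_conj, hα] at e1
    have := (rF_inj hK e1).2.2
    rw [hc, Units.val_mk0] at this
    exact this.symm
  have hg1 : g 1 = 0 := by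
    by_contra hne
    obtain ⟨c, -, hc, -⟩ := exists_gen_unit hK hm
    have key : ∀ t : K, 2 * t + t ^ 2 + t ^ (3 * 3 ^ m) + 2 * (t ^ (3 * 3 ^ m) * t) = 0 := by
      intro t
      have e := hgadd 1 t
      rw [hg, hg t, pow_add (1 + t), pow_add t, add_pow3' hK, one_pow] at e
      refine mul_right_cancel₀ hne ?_
      linear_combination e
    have k1 := key (c : K)
    have k2 := key (-(c : K))
    rw [Odd.neg_pow ((by decide : Odd 3).mul (Odd.pow (by decide)))] at k2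
    set r := (c : K) ^ (3 * 3 ^ m) with hr
    have k3 : (c : K) * ((c : K) + 2 * r) = 0 := by
      refine mul_left_cancel₀ (two_ne hK) ?_
      linear_combination k1 + k2
    have k4 := (mul_eq_zero.mp k3).resolve_left c.ne_zero
    exact hc (show r = (c : K) by linear_combination r * h3 - k4)
  intro x hx
  obtain ⟨t, u, v, rfl⟩ := exists_rF hK hx
  rw [rF_factor, map_mul, hall0, hα', hf, hg, hg1, mul_zero, rF_one, mul_one]

/-- An automorphism fixing `U₁` and the torus is the identity. -/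
theorem eq_one_of_fix {θ : MulAut ↥(S hK).fix} (h : NormTw (S hK) θ) (hU : ∀ g ∈ U1 (S hK), θ g = g)
    (hH : ∀ c, θ (hF hK c) = hF hK c) : θ = 1 := by
  have hT := Data.G2.valid
  let v : ↥(S hK).fix := ⟨_, neg_fix hK (1 : K) 0 0⟩
  have hv : v ∈ V1 (S hK) := mem_V1.mpr (rootGen_mono (fun r _ ⟨_, h, _⟩ => h) (rev_VJ hK (1 : K) 0 0))
  obtain hB | ⟨q, hq, n, hn, hmn, u, hu, e⟩ := canon hK v.2
  · exfalso
    have h0 : v = 1 := Subgroup.mem_bot.mp (B1_inf_V1.le
      (Subgroup.mem_inf.mpr ⟨Subgroup.mem_subgroupOf.mpr hB, hv⟩))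
    exact rev_ne_one hK (congrArg Subtype.val h0)
  obtain ⟨hqP, hqf⟩ := Subgroup.mem_inf.mp hq
  obtain ⟨huP, huf⟩ := Subgroup.mem_inf.mp hu
  obtain ⟨hnN, hnf⟩ := Subgroup.mem_inf.mp hn
  let qq : ↥(S hK).fix := ⟨q, hqf⟩
  let nn : ↥(S hK).fix := ⟨n, hnf⟩
  let uu : ↥(S hK).fix := ⟨u, huf⟩
  have hconj : ∀ y ∈ U1 (S hK), nn * y * nn⁻¹ ∈ V1 (S hK) := fun y hy =>
    mem_V1.mpr (conj_pos_neg hK hmn (Subgroup.mem_subgroupOf.mp hy))
  have hcard : Nat.card (U1 (S hK)) = Nat.card (V1 (S hK)) := by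
    obtain ⟨n', w, -, -, -, -, hUV, -⟩ := exists_n1 (O := O hK) (hV hK)
    rw [← hUV, Subgroup.card_map_of_injective (MulAut.conj n').injective]
  have hmapn : (U1 (S hK)).map (MulAut.conj nn).toMonoidHom = V1 (S hK) :=
    Subgroup.eq_of_le_of_card_ge (by rintro _ ⟨y, hy, rfl⟩; exact hconj y hy)
      (by rw [Subgroup.card_map_of_injective (MulAut.conj nn).injective, hcard])
  have hx : nn⁻¹ * θ nn ∈ B1 (S hK) := by
    rw [← normalizer_U1 (hV hK)]
    have e1 : (U1 (S hK)).map (MulAut.conj (θ nn)).toMonoidHom = V1 (S hK) := by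
      conv_lhs => rw [← h.mapU]
      rw [← Aut.map_conj_normal, hmapn, h.mapV]
    have e2 : (U1 (S hK)).map (MulAut.conj (nn⁻¹ * θ nn)).toMonoidHom = U1 (S hK) := by
      rw [Aut.map_conj_mul, e1, ← hmapn, ← Aut.map_conj_mul, inv_mul_cancel, map_one]
      exact Subgroup.map_id _
    rw [Subgroup.mem_normalizer_iff]
    intro y
    refine ⟨fun hy => e2.le ⟨y, hy, rfl⟩, fun hy => ?_⟩
    obtain ⟨z, hz, ez⟩ := e2.ge hy
    rwa [← (MulAut.conj (nn⁻¹ * θ nn)).injective (show MulAut.conj _ z = MulAut.conj _ y from ez)]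
  obtain ⟨hnfix, -⟩ := fix_neg_elt (O := O hK) (hV hK) h hv (q := qq) (n := nn) (u := uu) (Subtype.ext e)
    (U1_le_B1 (Subgroup.mem_subgroupOf.mpr huP)) (hU _ (Subgroup.mem_subgroupOf.mpr hqP))
    (hU _ (Subgroup.mem_subgroupOf.mpr huP)) hx
  refine MulEquiv.ext fun g => ?_
  show θ g = g
  have hdiag : ∀ {x : ↥(S hK).fix}, (x : GL (T2).I K) ∈ (T2).datum.diagonalSubgroup K → θ x = x := by
    intro x hx
    obtain ⟨c, hc⟩ := exists_hd hK (Subgroup.mem_inf.mpr ⟨hx, x.2⟩)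
    rw [show x = hF hK c from Subtype.ext hc.symm, hH]
  obtain hB | ⟨a, ha, k, hk, hmk, b, hb, eg⟩ := canon hK g.2
  · obtain ⟨a, ha, c, eg⟩ := borel_parts_fix hK g.2 hB
    rw [show g = (⟨a, (Subgroup.mem_inf.mp ha).2⟩ : ↥(S hK).fix) * hF hK c from Subtype.ext eg, map_mul, hH,
      hU _ (Subgroup.mem_subgroupOf.mpr (Subgroup.mem_inf.mp ha).1)]
  · let kk : ↥(S hK).fix := ⟨k, (Subgroup.mem_inf.mp hk).2⟩
    have hd : ((nn⁻¹ * kk : ↥(S hK).fix) : GL (T2).I K) ∈ (T2).datum.diagonalSubgroup K := by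
      refine mem_diag_of_mono_one hT (mul_mem (inv_mem hnN) (Subgroup.mem_inf.mp hk).1) ?_
      have := hmn.inv.mul hmk
      rwa [inv_mul_cancel] at this
    have hkfix : θ kk = kk := by
      have := hdiag hd
      rwa [map_mul, map_inv, hnfix, mul_right_inj] at this
    rw [show g = (⟨a, (Subgroup.mem_inf.mp ha).2⟩ : ↥(S hK).fix) * kk * ⟨b, (Subgroup.mem_inf.mp hb).2⟩ from
      Subtype.ext eg, map_mul, map_mul, hkfix, hU _ (Subgroup.mem_subgroupOf.mpr (Subgroup.mem_inf.mp ha).1),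
      hU _ (Subgroup.mem_subgroupOf.mpr (Subgroup.mem_inf.mp hb).1)]

theorem field_rF0 (σ : K ≃+* K) (v : K) : fieldG2 hK σ (rF hK 0 0 v) = rF hK 0 0 (σ v) := by
  obtain ⟨h0, h1, h2⟩ := e_ne hK
  obtain ⟨h6, h7, h8, h9, h10, h11⟩ := lt_n
  have hT := Data.G2.valid
  have hx : ∀ v : K, ree m 0 0 v = (T2).xU K 9 (v ^ 3 ^ m) * (T2).xU K 11 v := fun v => by
    simp only [ree, hi, zero_pow h0, zero_pow h1, zero_pow h2, add_zero, xU_zero hT h6, xU_zero hT h7,
      xU_zero hT h8, xU_zero hT h10, one_mul]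
  refine Subtype.ext ?_
  show (Aut.fieldFun (S hK).valid σ ⟨ree m 0 0 v, _⟩ : GL (T2).I K) = ree m 0 0 (σ v)
  rw [show (⟨ree m 0 0 v, (ree_fix hK 0 0 v).1⟩ : ↥((T2).datum.group K)) =
    Aut.xG hT ⟨9, h9⟩ (v ^ 3 ^ m) * Aut.xG hT ⟨11, h11⟩ v from Subtype.ext (hx v), map_mul,
    Aut.fieldFun_x, Aut.fieldFun_x, map_pow, hx]
  rfl

/-- Every normalised automorphism is a field automorphism followed by conjugation in the torus. -/
theorem exists_form (hm : 1 ≤ m) {θ : MulAut ↥(S hK).fix} (h : NormTw (S hK) θ) :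
    ∃ σ c, θ = MulAut.conj (hF hK c) * fieldG2 hK σ := by
  have hZex : ∀ v, ∃ γ, θ (rF hK 0 0 v) = rF hK 0 0 γ := by
    intro v
    have hd : ((θ (hF hK (-1))) : GL (T2).I K) ∈ (T2).datum.diagonalSubgroup K :=
      map_diag_mem (O := O hK) (hV hK) h (hd_mem hK (-1)).1
    obtain ⟨c, hc⟩ := exists_hd hK (Subgroup.mem_inf.mpr ⟨hd, (θ (hF hK (-1))).2⟩)
    have hc' : θ (hF hK (-1)) = hF hK c := Subtype.ext hc.symm
    have hcc : c = -1 := by
      have h2 : hF hK (c * c) = hF hK 1 := by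
        rw [map_mul, ← hc', ← map_mul, ← map_mul, neg_one_mul, neg_neg, map_one, map_one]
      rcases sq_eq_one_iff.mp (show ((c : K)) ^ 2 = 1 by
        rw [sq, ← Units.val_mul, hF_inj hK h2]; rfl) with e | e
      · exfalso
        have e1 : hF hK (-1) = 1 := θ.injective (by
          rw [hc', map_one, show c = 1 from Units.ext e, map_one])
        have e2 := congrArg Units.val (hF_inj hK (e1.trans (map_one (hF hK)).symm))
        exact one_ne_zero (eq_zero_of_neg hK (show -(1 : K) = 1 by simpa using e2))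
      · exact Units.ext (by simpa using e)
    rw [hcc] at hc'
    obtain ⟨t', u', v', e⟩ := exists_rF hK (h.mapU.le ⟨_, rF_mem hK 0 0 v, rfl⟩)
    change θ (rF hK 0 0 v) = _ at e
    have e1 := congrArg θ (neg_one_conj hK 0 0 v)
    rw [neg_zero, map_mul, map_mul, map_inv, hc', e, neg_one_conj] at e1
    have hinv : θ (rF hK 0 0 (-v)) = (rF hK t' u' v')⁻¹ := by
      rw [← e, ← map_inv]
      congr 1
      refine (inv_eq_of_mul_eq_one_right ?_).symm
      rw [rF0_mul, add_zero, add_neg_cancel, rF_one]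
    rw [hinv] at e1
    have hcube : rF hK t' u' v' ^ 3 = 1 := by
      rw [← e, ← map_pow]
      refine (congrArg θ (Subtype.ext ?_)).trans (map_one θ)
      exact (ree_cube hK 0 0 v).mpr rfl
    have ht : t' = 0 := (ree_cube hK t' u' v').mp (congrArg Subtype.val hcube)
    subst ht
    have e2 : (rF hK 0 u' v')⁻¹ = rF hK 0 (-u') (-v') := inv_eq_of_mul_eq_one_right (by
      rw [rF0_mul, add_neg_cancel, add_neg_cancel, rF_one])
    rw [e2] at e1
    exact ⟨v', by rw [e, eq_zero_of_neg hK (rF_inj hK e1).2.1.symm]⟩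
  choose γ hγ using hZex
  have hadd : ∀ a b, γ (a + b) = γ a + γ b := fun a b => by
    have e := congrArg θ (rF0_mul hK 0 a 0 b)
    rw [map_mul, add_zero, hγ, hγ, hγ, rF0_mul, add_zero] at e
    exact (rF_inj hK e).2.2.symm
  have hinj : Function.Injective γ := fun a b e =>
    (rF_inj hK (θ.injective ((hγ a).trans ((congrArg (rF hK 0 0) e).trans (hγ b).symm)))).2.2
  have hz : γ 0 = 0 := by
    have := hadd 0 0
    rw [add_zero] at this
    linear_combination -this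
  set d : Kˣ := Units.mk0 (γ 1) (fun e => one_ne_zero (hinj (e.trans hz.symm))) with hd
  choose ψ hψ using fun c => exists_hd hK (Subgroup.mem_inf.mpr
    ⟨map_diag_mem (O := O hK) (hV hK) h (x := hF hK c) (hd_mem hK c).1, (θ (hF hK c)).2⟩)
  have hmul : ∀ (c : Kˣ) (v : K), γ (c * v) = (ψ c : K) * γ v := by
    intro c v
    have e := congrArg θ (hF_conj hK c 0 0 v)
    rw [mul_zero, mul_zero, map_mul, map_mul, map_inv, hγ, hγ,
      show θ (hF hK c) = hF hK (ψ c) from Subtype.ext (hψ c).symm, hF_conj, mul_zero, mul_zero] at e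
    exact (rF_inj hK e).2.2.symm
  have hψ1 : ∀ c : Kˣ, γ c = (ψ c : K) * γ 1 := fun c => by rw [← hmul, mul_one]
  let s : K → K := fun v => γ v * (γ 1)⁻¹
  have hne : γ 1 ≠ 0 := d.ne_zero
  have hsm : ∀ a b, s (a * b) = s a * s b := by
    intro a b
    by_cases ha : a = 0
    · subst ha; simp [s, hz]
    have e1 := hψ1 (Units.mk0 a ha)
    have e2 := hmul (Units.mk0 a ha) b
    rw [Units.val_mk0] at e1 e2
    simp only [s, e2, e1]
    field_simp
  let σ : K ≃+* K :=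
    { Equiv.ofBijective s (Finite.injective_iff_bijective.mp fun a b e =>
        hinj (mul_right_cancel₀ (inv_ne_zero hne) e)) with
      map_mul' := hsm
      map_add' := fun a b => by show s (a + b) = s a + s b; simp only [s, hadd, add_mul] }
  refine ⟨σ, d, ?_⟩
  set θ' := (MulAut.conj (hF hK d) * fieldG2 hK σ)⁻¹ * θ with hθ'
  suffices θ' = 1 by rw [hθ', inv_mul_eq_one] at this; exact this.symm
  have hn' : NormTw (S hK) θ' :=
    NormTw.mul ((NS_inv hK (NormTw.mul (conj_diag_normTw (hd_mem hK d).1) (fieldTw_normTw _ _ σ)))) h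
  have hZ : ∀ v, θ' (rF hK 0 0 v) = rF hK 0 0 v := by
    intro v
    rw [hθ', MulAut.mul_apply, hγ]
    show (MulAut.conj (hF hK d) * fieldG2 hK σ).symm (rF hK 0 0 (γ v)) = _
    rw [MulEquiv.symm_apply_eq, MulAut.mul_apply, field_rF0, MulAut.conj_apply, hF_conj, mul_zero, mul_zero]
    congr 1
    show γ v = γ 1 * (γ v * (γ 1)⁻¹)
    field_simp
  have hH : ∀ c, θ' (hF hK c) = hF hK c := by
    intro c
    obtain ⟨c', hc'⟩ := exists_hd hK (Subgroup.mem_inf.mpr
      ⟨map_diag_mem (O := O hK) (hV hK) hn' (x := hF hK c) (hd_mem hK c).1, (θ' (hF hK c)).2⟩)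
    have e' : θ' (hF hK c) = hF hK c' := Subtype.ext hc'.symm
    have e := congrArg θ' (hF_conj hK c 0 0 1)
    rw [mul_zero, mul_zero, map_mul, map_mul, map_inv, hZ, hZ, e', hF_conj, mul_zero, mul_zero,
      mul_one, mul_one] at e
    rw [e', Units.ext (rF_inj hK e).2.2]
  exact eq_one_of_fix hK hn' (fix_U1 hK hm hn' hZ hH) hH
where
  /-- Inverses of normalised automorphisms. -/
  NS_inv {K : Type _} [Field K] [Finite K] {m : ℕ} (hK : Nat.card K = 3 ^ (2 * m + 1))
      {θ : MulAut ↥(S hK).fix} (h : NormTw (S hK) θ) : NormTw (S hK) θ⁻¹ := by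
    have e : ∀ H : Subgroup ↥(S hK).fix, H.map θ.toMonoidHom = H → H.map (θ⁻¹).toMonoidHom = H := by
      intro H hH
      conv_lhs => rw [← hH]
      rw [Subgroup.map_map]
      convert Subgroup.map_id _
      ext x
      simp
    exact ⟨e _ h.mapU, e _ h.mapV⟩

/-- The order of the outer automorphism group of ²G₂. -/
theorem out_g2 (hm : 1 ≤ m) :
    Nat.card (Cfsg.Out ↥(S hK).fix) = Nat.card (K ≃+* K) := by
  refine (Nat.card_eq_of_bijective (fun σ : K ≃+* K => QuotientGroup.mk' (Cfsg.Inn ↥(S hK).fix) (fieldG2 hK σ))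
    ⟨fun a b e => ?_, fun x => ?_⟩).symm
  · obtain ⟨y, hy⟩ : (fieldG2 hK a)⁻¹ * fieldG2 hK b ∈ Cfsg.Inn ↥(S hK).fix := QuotientGroup.eq.mp e
    rw [← map_inv, ← map_mul] at hy
    have hyd := mem_diag_of_normTw (O := O hK) (hV hK)
      (show NormTw (S hK) (MulAut.conj y) by
        rw [show MulAut.conj y = fieldG2 hK (a⁻¹ * b) from hy]; exact fieldTw_normTw _ _ _)
    obtain ⟨c, hc⟩ := exists_hd hK (Subgroup.mem_inf.mpr ⟨hyd, y.2⟩)
    rw [show y = hF hK c from Subtype.ext hc.symm] at hy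
    have key : ∀ v : K, (c : K) * v = (a⁻¹ * b : K ≃+* K) v := by
      intro v
      have h1 := DFunLike.congr_fun hy (rF hK 0 0 v)
      rw [field_rF0, MulAut.conj_apply, hF_conj, mul_zero, mul_zero] at h1
      exact (rF_inj hK h1).2.2
    have hc1 : (c : K) = 1 := by
      have := key 1
      rwa [mul_one, map_one] at this
    exact inv_mul_eq_one.mp (RingEquiv.ext fun v => by
      rw [← key v, hc1, one_mul]; rfl)
  · obtain ⟨θ, rfl⟩ := QuotientGroup.mk'_surjective _ x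
    obtain ⟨y, hy⟩ := exists_normTw (O := O hK) (hV hK) θ
    obtain ⟨σ, c, e⟩ := exists_form hK hm hy
    refine ⟨σ, QuotientGroup.eq.mpr ⟨(fieldG2 hK σ)⁻¹ (y⁻¹ * hF hK c), ?_⟩⟩
    have hθ : θ = (MulAut.conj y)⁻¹ * (MulAut.conj (hF hK c) * fieldG2 hK σ) := by rw [← e]; group
    rw [hθ]
    refine MulEquiv.ext fun g => (fieldG2 hK σ).injective ?_
    simp only [MulAut.mul_apply, MulAut.conj_apply, map_mul, map_inv, MulAut.inv_def,
      MulEquiv.apply_symm_apply, MulAut.conj_symm_apply, _root_.mul_inv_rev, inv_inv]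

end CfsgLib.KnownB.AutTw.G2
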