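import Cfsg.Agent.Lib.KnownB.AutTw.Field

/-!
The minimal parabolic subgroups of the fixed points, and how normalised automorphisms move them.
-/

set_option autoImplicit false

namespace CfsgLib.KnownB.AutTw.Gn

open CfsgLib.Chevalley CfsgLib.Chevalley.Tbl CfsgLib.Chevalley.Tbl.Twist CfsgLib.BNPair

variable {T : Tbl} {F : Type*} [Field F] (S : Twist T F) (O : Orbits T S.valid S.ρ)

/-- The fixed part of the positive subgroup of an orbit. -/
noncomputable abbrev XP (j : Fin O.o) : Subgroup ↥S.fix :=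
  (T.rootGen F (T.negSet (S.wJ O j))).subgroupOf S.fix

/-- The fixed part of the negative subgroup of an orbit. -/
noncomputable abbrev XN (j : Fin O.o) : Subgroup ↥S.fix :=
  (T.rootGen F (fun r => ∃ h : r < T.n, r < T.half ∧ T.half ≤ (S.wJ O j ⟨r, h⟩).val)).subgroupOf S.fix


variable {S O}

theorem XP_le_U1 (j : Fin O.o) : XP S O j ≤ U1 S := fun _ hg =>
  mem_U1.mpr (rootGen_mono (fun r _ ⟨_, h, _⟩ => h) (Subgroup.mem_subgroupOf.mp hg))

theorem XN_le_V1 (j : Fin O.o) : XN S O j ≤ V1 S := fun _ hg =>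
  mem_V1.mpr (rootGen_mono (fun r _ ⟨_, h, _⟩ => h) (Subgroup.mem_subgroupOf.mp hg))


theorem wJ_wJ' (j : Fin O.o) (r : Fin T.n) : S.wJ O j (S.wJ O j r) = r := S.wJ_wJ O j r

/-- A monomial element of an orbit exchanges the two subgroups. -/
theorem map_conj_XP_XN [Finite F] {j : Fin O.o} {n : ↥S.fix} (hm : T.Mono (n : GL T.I F) (S.wJ O j)) :
    (XP S O j).map (MulAut.conj n).toMonoidHom = XN S O j ∧
      (XN S O j).map (MulAut.conj n).toMonoidHom = XP S O j := by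
  classical
  have hT := S.valid
  have h1 : (XP S O j).map (MulAut.conj n).toMonoidHom ≤ XN S O j := by
    rintro _ ⟨y, hy, rfl⟩
    refine Subgroup.mem_subgroupOf.mpr (conj_mem_rootGen hT hm (fun r ⟨_, hr, hr'⟩ => ?_)
      (Subgroup.mem_subgroupOf.mp hy))
    exact ⟨(S.wJ O j r).2, hr', by
      rw [show (⟨(S.wJ O j r).val, (S.wJ O j r).2⟩ : Fin T.n) = S.wJ O j r from rfl, wJ_wJ']
      exact hr⟩
  have h2 : (XN S O j).map (MulAut.conj n).toMonoidHom ≤ XP S O j := by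
    rintro _ ⟨y, hy, rfl⟩
    refine Subgroup.mem_subgroupOf.mpr (conj_mem_rootGen hT hm (fun r ⟨_, hr, hr'⟩ => ?_)
      (Subgroup.mem_subgroupOf.mp hy))
    exact ⟨(S.wJ O j r).2, hr', by
      rw [show (⟨(S.wJ O j r).val, (S.wJ O j r).2⟩ : Fin T.n) = S.wJ O j r from rfl, wJ_wJ']
      exact hr⟩
  have c1 := Subgroup.card_le_of_le h1
  have c2 := Subgroup.card_le_of_le h2
  rw [Subgroup.card_map_of_injective (MulAut.conj n).injective] at c1 c2
  exact ⟨Subgroup.eq_of_le_of_card_ge h1 (by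
      rw [Subgroup.card_map_of_injective (MulAut.conj n).injective]; exact c2),
    Subgroup.eq_of_le_of_card_ge h2 (by
      rw [Subgroup.card_map_of_injective (MulAut.conj n).injective]; exact c1)⟩


variable (hV : S.VHyp O)

/-- The chosen representative, inside the fixed points. -/
noncomputable def repF (j : Fin O.o) : ↥S.fix := ⟨rep hV j, rep_fix hV j⟩

theorem mono_repF (j : Fin O.o) : T.Mono (repF hV j : GL T.I F) (S.wJ O j) := rep_mono hV j

variable {hV}
include hV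

theorem repF_injective : Function.Injective (repF hV) := fun j k h => by
  refine S.wJ_injective O ((mono_repF (hV := hV) j).unique ?_)
  rw [h]; exact mono_repF (hV := hV) k

omit hV in
theorem mono_not_mem_B1 {j : Fin O.o} {n : ↥S.fix}
    (hn : (n : GL T.I F) ∈ T.datum.monomialSubgroup F) (hm : T.Mono (n : GL T.I F) (S.wJ O j)) :
    n ∉ B1 S := fun h => by
  have hd : (n : GL T.I F) ∈ T.datum.diagonalSubgroup F :=
    (borel_inf_monomial (T := T) (F := F) S.valid).le ⟨Subgroup.mem_subgroupOf.mp h, hn⟩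
  have h1 := hm.unique (mono_diag S.valid hd)
  obtain ⟨i, hi⟩ := O.onto j
  have h2 : (S.wJ O j (T.simpF S.valid i)).val < T.half := O.neg j i hi
  rw [h1, Equiv.Perm.one_apply] at h2
  exact absurd h2 (not_lt.mpr (half_le_simpF S.valid i))

theorem repF_not_mem (j : Fin O.o) : repF hV j ∉ B1 S :=
  mono_not_mem_B1 (rep_N hV j) (mono_repF (hV := hV) j)

omit hV in
/-- The minimal parabolic subgroup of an orbit. -/
noncomputable def MJ (hV : S.VHyp O) (j : Fin O.o) : Subgroup ↥S.fix := (pair hV).parabolic {repF hV j}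

theorem repF_mem_S (j : Fin O.o) : repF hV j ∈ (pair hV).S := ⟨j, rfl⟩

theorem B1_le_MJ (j : Fin O.o) : B1 S ≤ MJ hV j := (pair_B_eq hV).ge.trans le_sup_left

theorem repF_mem (j : Fin O.o) : repF hV j ∈ MJ hV j := Subgroup.mem_sup_right (Subgroup.subset_closure rfl)


variable [Finite F]

omit [Finite F] in
theorem mem_MJ {j : Fin O.o} {g : ↥S.fix} (hg : g ∈ MJ hV j) :
    g ∈ B1 S ∨ ∃ b ∈ B1 S, ∃ y ∈ XP S O j, g = b * repF hV j * y := by
  have hT := S.valid
  have hJ : ({repF hV j} : Set ↥S.fix) ⊆ (pair hV).S := Set.singleton_subset_iff.mpr (repF_mem_S j)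
  obtain ⟨w, hw, hc⟩ := (Basic.parabolic_eq (pair hV) hJ g).mp hg
  obtain ⟨l, -, rfl, hl⟩ := Parabolic.exists_reduced_WJ (pair hV) hw
  let s : (pair hV).S := ⟨repF hV j, repF_mem_S j⟩
  have hs : ∀ t ∈ l, t = s := fun t ht => Subtype.ext (hl t ht)
  have hprod : (l.map (Basic.σ (pair hV))).prod = 1 ∨
      (l.map (Basic.σ (pair hV))).prod = Basic.σ (pair hV) s := by
    clear hc hl hw
    induction l with
    | nil => exact Or.inl rfl
    | cons t l ih =>
      rw [List.map_cons, List.prod_cons, hs t List.mem_cons_self]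
      rcases ih (fun x hx => hs x (List.mem_cons_of_mem _ hx)) with h | h
      · exact Or.inr (by rw [h, mul_one])
      · exact Or.inl (by rw [h, Basic.σ_mul_self])
  rcases hprod with h | h <;> rw [h] at hc
  · exact Or.inl ((pair_B_eq hV).le ((Basic.mem_cell_one _).mp hc))
  refine Or.inr ?_
  rw [show Basic.σ (pair hV) s = Basic.proj (pair hV) (Basic.sN (pair hV) s) from rfl,
    Basic.cell_proj, DoubleCoset.mem_doubleCoset] at hc
  obtain ⟨b, hb, c, hc, e⟩ := hc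
  rw [SetLike.mem_coe, pair_B_eq hV] at hb hc
  obtain ⟨a, haf, ha, h, hhf, hh, ec⟩ := borel_fix (S := S) (Subgroup.mem_subgroupOf.mp hc) c.2
  let h' : ↥S.fix := ⟨h, hhf⟩
  have ha2 : h⁻¹ * a * h ∈ T.rootGen F (fun r => T.half ≤ r) := by
    have := (Subgroup.mem_normalizer_iff.mp (diag_le_normalizer hT (fun r => T.half ≤ r) (inv_mem hh)) a).mp ha
    rwa [inv_inv] at this
  obtain ⟨p, hpf, hp, q, hqf, hq, epq⟩ := pos_fix_factor (S.wJ_mem O j) (mono_repF (hV := hV) j) ha2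
    (mul_mem (mul_mem (inv_mem hhf) haf) hhf)
  let r : ↥S.fix := repF hV j
  let p' : ↥S.fix := ⟨p, hpf⟩
  have hrh : r * h' * r⁻¹ ∈ B1 S :=
    Subgroup.mem_subgroupOf.mpr (Subgroup.mem_sup_right (conj_diag hT (rep_N hV j) hh))
  have hrp : r * p' * r⁻¹ ∈ B1 S :=
    U1_le_B1 (mem_U1.mpr (conj_mem_rootGen hT (mono_repF (hV := hV) j) (fun s ⟨_, _, hs⟩ => hs) hp))
  refine ⟨b * (r * h' * r⁻¹) * (r * p' * r⁻¹), mul_mem (mul_mem hb hrh) hrp, ⟨q, hqf⟩,
    Subgroup.mem_subgroupOf.mpr hq, ?_⟩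
  have ecc : c = h' * (p' * ⟨q, hqf⟩) := Subtype.ext (by
    show (c : GL T.I F) = h * (p * q)
    rw [← epq, ec]; group)
  rw [e, ecc]
  show b * r * _ = b * (r * h' * r⁻¹) * (r * p' * r⁻¹) * r * _
  group

omit [Finite F] in
/-- A monomial element in `B₁ V₁` is diagonal. -/
theorem not_mem_BV {j : Fin O.o} {n b v : ↥S.fix} (hn : (n : GL T.I F) ∈ T.datum.monomialSubgroup F)
    (hm : T.Mono (n : GL T.I F) (S.wJ O j)) (hb : b ∈ B1 S) (hv : v ∈ V1 S) : n ≠ b * v := by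
  intro e
  have hT := S.valid
  obtain ⟨m, w0, hw0, hm0, hm0N, hiff, hUV, -⟩ := exists_n1 (O := O) hV
  obtain ⟨y, hy, ey⟩ := hUV.ge hv
  have hy' : (y : GL T.I F) ∈ T.rootGen F (T.negSet w0) :=
    rootGen_mono (fun r hr hp => ⟨hr, hp, (hiff ⟨r, hr⟩).mp hp⟩) (mem_U1.mp hy)
  have e2 : n * m = b * m * y := by
    rw [e, ← ey]
    show b * (m * y * m⁻¹) * m = _
    group
  obtain ⟨hd, -⟩ := canonical_unique hT S.comm (Subgroup.mem_subgroupOf.mp hb) (one_mem _) hm0N
    (mul_mem hn hm0N) hm0 hy' (one_mem (T.rootGen F (T.negSet (1 : Equiv.Perm (Fin T.n))))) (by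
      rw [one_mul, mul_one]
      exact (congrArg Subtype.val e2).symm)
  have h1 := ((hm0.inv).mul (hm.mul hm0)).unique (mono_diag hT hd)
  rw [inv_mul_eq_one] at h1
  have h2 : S.wJ O j = 1 := mul_eq_right.mp h1.symm
  obtain ⟨i, hi⟩ := O.onto j
  have h3 : (S.wJ O j (T.simpF S.valid i)).val < T.half := O.neg j i hi
  rw [h2, Equiv.Perm.one_apply] at h3
  exact absurd h3 (not_lt.mpr (half_le_simpF S.valid i))

/-- The negative subgroup of an orbit, intrinsically. -/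
theorem MJ_inf_V1 (j : Fin O.o) : MJ hV j ⊓ V1 S = XN S O j := by
  have hT := S.valid
  refine le_antisymm ?_ fun x hx => ?_
  · rintro g hgg
    obtain ⟨hg, hgV⟩ := Subgroup.mem_inf.mp hgg
    obtain ⟨m, w0, hw0, hm0, -, hiff, hUV, -⟩ := exists_n1 (O := O) hV
    -- split off the part in the orbit, working in `U₁`
    obtain ⟨y, hy, ey⟩ := hUV.ge hgV
    set w := S.wJ O j * w0 with hwdef
    have hwW : w ∈ S.W1 := mul_mem (S.wJ_mem O j) hw0
    have hgm : T.Mono ((repF hV j * m : ↥S.fix) : GL T.I F) w := (mono_repF (hV := hV) j).mul hm0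
    obtain ⟨p, hpf, hp, q, hqf, hq, epq⟩ := pos_fix_factor hwW hgm (mem_U1.mp hy) y.2
    -- `p` goes to the orbit, `q` stays negative under both
    let pp : ↥S.fix := ⟨p, hpf⟩
    let qq : ↥S.fix := ⟨q, hqf⟩
    have hpX : m * pp * m⁻¹ ∈ XN S O j := Subgroup.mem_subgroupOf.mpr
      (conj_mem_rootGen hT hm0 (fun s ⟨_, h1, h2⟩ => ⟨(w0 s).2, (hiff s).mp h1, h2⟩) hp)
    have hq1 : m * qq * m⁻¹ ∈ V1 S := mem_V1.mpr
      (conj_mem_rootGen hT hm0 (fun s ⟨_, h1, _⟩ => (hiff s).mp h1) hq)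
    have hq2 : repF hV j * (m * qq * m⁻¹) * (repF hV j)⁻¹ ∈ V1 S := by
      rw [show repF hV j * (m * qq * m⁻¹) * (repF hV j)⁻¹ = (repF hV j * m) * qq * (repF hV j * m)⁻¹ by group]
      exact mem_V1.mpr (conj_mem_rootGen hT hgm (fun s ⟨_, _, h2⟩ => h2) hq)
    have hXle : XN S O j ≤ MJ hV j := by
      rw [← (map_conj_XP_XN (mono_repF (hV := hV) j)).1]
      rintro _ ⟨z, hz, rfl⟩
      exact mul_mem (mul_mem (repF_mem j) (B1_le_MJ j (U1_le_B1 (XP_le_U1 j hz)))) (inv_mem (repF_mem j))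
    have eg : g = (m * pp * m⁻¹) * (m * qq * m⁻¹) := by
      rw [← ey, show y = pp * qq from Subtype.ext epq]
      show m * (pp * qq) * m⁻¹ = _
      group
    set v := m * qq * m⁻¹ with hv
    have hvM : v ∈ MJ hV j := by
      have := mul_mem (inv_mem (hXle hpX)) hg
      rwa [eg, inv_mul_cancel_left] at this
    suffices v = 1 by rw [eg, this, mul_one]; exact hpX
    rcases mem_MJ hvM with h | ⟨b, hb, z, hz, e⟩
    · exact Subgroup.mem_bot.mp (B1_inf_V1.le (Subgroup.mem_inf.mpr ⟨h, hq1⟩))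
    exfalso
    have hx : repF hV j * z⁻¹ * (repF hV j)⁻¹ ∈ XN S O j :=
      (map_conj_XP_XN (mono_repF (hV := hV) j)).1.le ⟨z⁻¹, inv_mem hz, rfl⟩
    have hn : ((repF hV j)⁻¹ : GL T.I F) ∈ T.datum.monomialSubgroup F := inv_mem (rep_N hV j)
    have hmn : T.Mono (((repF hV j)⁻¹ : ↥S.fix) : GL T.I F) (S.wJ O j) := by
      have := (mono_repF (hV := hV) j).inv
      rwa [show (S.wJ O j)⁻¹ = S.wJ O j from S.wJ_inv O j] at this
    refine not_mem_BV (hV := hV) (n := (repF hV j)⁻¹) hn hmn hb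
      (v := ((repF hV j * v * (repF hV j)⁻¹) * (repF hV j * z⁻¹ * (repF hV j)⁻¹))⁻¹)
      (inv_mem (mul_mem hq2 (XN_le_V1 j hx))) ?_
    rw [e]
    group
  · refine Subgroup.mem_inf.mpr ⟨?_, XN_le_V1 j hx⟩
    obtain ⟨z, hz, rfl⟩ := (map_conj_XP_XN (mono_repF (hV := hV) j)).1.ge hx
    exact mul_mem (mul_mem (repF_mem j) (B1_le_MJ j (U1_le_B1 (XP_le_U1 j hz)))) (inv_mem (repF_mem j))

omit [Finite F] in
theorem MJ_le_MJ {j k : Fin O.o} (h : MJ hV k ≤ MJ hV j) : k = j := by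
  have h1 : repF hV k ∈ (pair hV).S ∩ ((pair hV).parabolic {repF hV j} : Set ↥S.fix) :=
    ⟨repF_mem_S k, h (repF_mem k)⟩
  rw [Parabolic.inter_parabolic (pair hV) (Set.singleton_subset_iff.mpr (repF_mem_S j))] at h1
  exact repF_injective h1

omit [Finite F] in
theorem exists_MJ_le {M : Subgroup ↥S.fix} (hle : B1 S ≤ M) (hne : M ≠ B1 S) :
    ∃ j, MJ hV j ≤ M := by
  by_contra hno
  push Not at hno
  refine hne ?_
  have h := Parabolic.eq_parabolic (pair hV) (M := M) ((pair_B_eq hV).le.trans hle)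
  rw [h]
  have hempty : (pair hV).S ∩ (M : Set ↥S.fix) = ∅ := by
    ext s
    simp only [Set.mem_empty_iff_false, iff_false]
    rintro ⟨⟨i, rfl⟩, hsM⟩
    refine hno i (sup_le ((pair_B_eq hV).le.trans hle) ((Subgroup.closure_le _).mpr ?_))
    rintro x rfl
    exact hsM
  rw [hempty, Cfsg.BNPair.parabolic, Subgroup.closure_empty, sup_bot_eq]
  exact pair_B_eq hV

omit [Finite F] in
theorem exists_image_MJ {θ : MulAut ↥S.fix} (h : NormTw S θ) (j : Fin O.o) :
    ∃ k, (MJ hV j).map θ.toMonoidHom = MJ hV k := by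
  have hne : ∀ (σ : MulAut ↥S.fix), NormTw S σ → ∀ k : Fin O.o,
      (MJ hV k).map σ.toMonoidHom ≠ B1 S := by
    intro σ hσ k e
    rw [← hσ.mapB hV] at e
    exact repF_not_mem k (Subgroup.map_injective σ.injective e ▸ repF_mem k)
  obtain ⟨k, hk⟩ := exists_MJ_le
    (le_of_eq_of_le (h.mapB hV).symm (Subgroup.map_mono (B1_le_MJ j))) (hne θ h j)
  obtain ⟨i, hi⟩ := exists_MJ_le
    (le_of_eq_of_le (h.symm.mapB hV).symm (Subgroup.map_mono (B1_le_MJ k))) (hne θ⁻¹ h.symm k)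
  have hback : ((MJ hV j).map θ.toMonoidHom).map (θ⁻¹ : MulAut ↥S.fix).toMonoidHom = MJ hV j := by
    rw [Subgroup.map_map]
    convert Subgroup.map_id _
    ext x
    simp
  have hij : i = j := MJ_le_MJ (hi.trans (le_of_le_of_eq (Subgroup.map_mono hk) hback))
  subst hij
  refine ⟨k, le_antisymm ?_ hk⟩
  rintro _ ⟨y, hy, rfl⟩
  obtain ⟨z, hz, e⟩ := hi hy
  rw [show θ.toMonoidHom y = z from by
    rw [← e]
    exact θ.apply_symm_apply z]
  exact hz

theorem exists_perm {θ : MulAut ↥S.fix} (h : NormTw S θ) :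
    ∃ π : Equiv.Perm (Fin O.o), ∀ j, (MJ hV j).map θ.toMonoidHom = MJ hV (π j) ∧
      (XN S O j).map θ.toMonoidHom = XN S O (π j) := by
  choose f hf using exists_image_MJ (hV := hV) h
  have hinj : Function.Injective f := fun a b e =>
    MJ_le_MJ (Subgroup.map_injective θ.injective ((hf a).trans ((congrArg (MJ hV) e).trans (hf b).symm))).le
  refine ⟨Equiv.ofBijective f (Finite.injective_iff_bijective.mp hinj), fun j => ⟨hf j, ?_⟩⟩
  rw [← MJ_inf_V1 (hV := hV), Subgroup.map_inf _ _ _ θ.injective, hf, h.mapV, MJ_inf_V1]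
  rfl

end CfsgLib.KnownB.AutTw.Gn
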