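import Cfsg.Agent.Lib.KnownB.AutTw.Coord
import Cfsg.Agent.Lib.KnownB.Aut.OutGroup

/-!
Normalised automorphisms of a group of fixed points, and the order of its outer automorphism group.
-/

set_option autoImplicit false

namespace CfsgLib.KnownB.AutTw

open CfsgLib.Chevalley CfsgLib.Chevalley.Tbl CfsgLib.Chevalley.Tbl.Twist

variable {T : Tbl} {F : Type*} [Field F]

/-- What is needed to count the normalised automorphisms. -/
structure OutHyp (A : AbSetup T F) : Prop where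
  gen : A.G = A.S.fix
  sq : ∀ (j : Fin A.o) (a : F), PP A j j a = a * a
  perm : ∀ π : Equiv.Perm (Fin A.o), (∀ j, Nat.card (FF A (π j)) = Nat.card (FF A j)) →
    (∀ j k, j ≠ k → ((∀ s t, Commute (xp A j s) (xp A k t)) ↔
      ∀ s t, Commute (xp A (π j) s) (xp A (π k) t))) → π = 1
  link : ∀ φ : ∀ j, ↥(FF A j) ≃+* ↥(FF A j),
    (∀ (j k : Fin A.o) (a : ↥(FF A j)) (v : ↥(FF A k)), a ≠ 0 → (v : F) = PP A j k a →
      (φ k v : F) = PP A j k (φ j a)) →
    ∃ σ : F ≃+* F, ∀ j t, (φ j t : F) = σ (t : F)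
  full : ∃ j : Fin A.o, ∀ t : F, A.Fit j t
  fcomm : ∀ (σ : F ≃+* F) (t : F), σ (A.D.f t) = A.D.f (σ t)

variable {A : AbSetup T F}

/-- An automorphism acting by a field automorphism and one scalar on each orbit. -/
def ActsTw (θ : MulAut ↥A.S.fix) (σ : F ≃+* F) (c : ∀ j, (↥(FF A j))ˣ) : Prop :=
  ∀ j t, (∃ t', θ (xp A j t) = xp A j t' ∧ (t' : F) = ((c j : ↥(FF A j)) : F) * σ t) ∧
    ∃ t', θ (xn A j t) = xn A j t' ∧ (t' : F) = ((c j : ↥(FF A j)) : F)⁻¹ * σ t

/-- The fixed points inside the group. -/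
noncomputable def incl : ↥A.S.fix →* ↥(T.datum.group F) := Subgroup.inclusion fun _ h => h.1

/-- Homomorphisms agreeing on the generating words agree. -/
theorem tw_hom_ext (hG : A.G = A.S.fix) {M : Type*} [Group M] (φ ψ : ↥A.S.fix →* M)
    (h : ∀ j t, φ (xp A j t) = ψ (xp A j t) ∧ φ (xn A j t) = ψ (xn A j t)) : φ = ψ := by
  have hle : A.G ≤ (φ.eqLocus ψ).map A.S.fix.subtype := by
    refine (Subgroup.closure_le _).mpr ?_
    rintro g ⟨w, hw, hg⟩
    obtain ⟨j, hj, t, ht, hwj | hwj⟩ := A.hW w hw <;> subst hwj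
    · refine ⟨xp A ⟨j, hj⟩ ⟨t, ht⟩, (h _ _).1, ?_⟩
      exact Units.ext ((gprod_wordMat A.D.ok.valid (A.D.cycWord_lt (A.facts hj).1 t)).symm.trans hg.symm)
    · refine ⟨xn A ⟨j, hj⟩ ⟨t, ht⟩, (h _ _).2, ?_⟩
      exact Units.ext ((gprod_wordMat A.D.ok.valid (A.D.cycWord_lt (A.facts hj).2.1 t)).symm.trans hg.symm)
  refine MonoidHom.ext fun g => ?_
  obtain ⟨y, hy, e⟩ := hle (hG.symm ▸ g.2 : (g : GL T.I F) ∈ A.G)
  obtain rfl : y = g := Subtype.ext e
  exact hy

theorem gprod_map_hom (φ : ↥(T.datum.group F) →* ↥(T.datum.group F)) (g : ℕ × F → ℕ × F) :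
    ∀ {l : List (ℕ × F)} (hl : ∀ p ∈ l, p.1 < T.n),
      (∀ p (hp : p ∈ l), (φ (Aut.xG A.D.ok.valid ⟨p.1, hl p hp⟩ p.2) : GL T.I F) = T.xU F (g p).1 (g p).2) →
      (φ ⟨T.gprod l, gprod_mem_group A.D.ok.valid hl⟩ : GL T.I F) = T.gprod (l.map g) := by
  intro l
  induction l with
  | nil =>
    intro hl _
    exact congrArg Subtype.val (show φ ⟨T.gprod ([] : List (ℕ × F)), _⟩ = 1 from map_one φ)
  | cons p l ih =>
    intro hl h
    rw [show (⟨T.gprod (p :: l), gprod_mem_group A.D.ok.valid hl⟩ : ↥(T.datum.group F)) =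
      Aut.xG A.D.ok.valid ⟨p.1, hl p List.mem_cons_self⟩ p.2 *
        ⟨T.gprod l, gprod_mem_group A.D.ok.valid fun q hq => hl q (List.mem_cons_of_mem _ hq)⟩ from rfl,
      map_mul, Subgroup.coe_mul, h p List.mem_cons_self,
      ih (fun q hq => hl q (List.mem_cons_of_mem _ hq)) (fun q hq => h q (List.mem_cons_of_mem _ hq))]
    rfl

theorem iterate_comm (hc : ∀ (σ : F ≃+* F) (t : F), σ (A.D.f t) = A.D.f (σ t)) (σ : F ≃+* F) (e : ℕ) (t : F) :
    σ ((⇑A.D.f)^[e] t) = (⇑A.D.f)^[e] (σ t) := by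
  induction e with
  | zero => rfl
  | succ e ih => rw [Function.iterate_succ_apply', Function.iterate_succ_apply', hc, ih]

/-- The node values of the scalars. -/
noncomputable def nodeC (c : ∀ j, (↥(FF A j))ˣ) (i : Fin T.rank) : Fˣ :=
  Units.mk0 ((⇑A.D.f)^[(A.Ss.getD (A.O.orb i : Fin A.o).val []).idxOf i.val]
    ((c (A.O.orb i) : ↥(FF A (A.O.orb i))) : F)) (fun h => by
      have := (A.D.f.injective.iterate _) (h.trans (Function.iterate_fixed (map_zero A.D.f) _).symm)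
      exact Units.ne_zero (c (A.O.orb i)) (Subtype.ext this))

theorem nodeC_L (c : ∀ j, (↥(FF A j))ˣ) (j : Fin A.o) {e : ℕ} (he : e < (A.L j).length) :
    ∃ i : Fin T.rank, (A.L j).getD e 0 = T.simple i ∧
      (nodeC c i : F) = (⇑A.D.f)^[e] ((c j : ↥(FF A j)) : F) := by
  obtain ⟨-, -, hlt, hperm⟩ := A.facts j.2
  have he' : e < (A.Ss.getD j []).length := by rwa [← A.length_L]
  have hnd : (A.Ss.getD j []).Nodup := List.Nodup.of_map T.simple
    (show (A.L j).Nodup from hperm.nodup_iff.mp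
      ((List.Pairwise.filter _ List.pairwise_lt_range').imp fun h => ne_of_lt h))
  have hL : (A.L j).getD e 0 = T.simple (A.Ss.getD j [])[e] := by
    rw [List.getD_eq_getElem _ _ he]
    simp [AbSetup.L, simples]
  let i : Fin T.rank := ⟨(A.Ss.getD j [])[e], hlt _ (List.getElem_mem he')⟩
  have hij : A.O.orb i = j := orb_of_negSet (mem_negSet_L.mpr (show T.simple i.val ∈ A.L j by
    rw [← hL, List.getD_eq_getElem _ _ he]; exact List.getElem_mem he))
  refine ⟨i, hL, ?_⟩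
  show (⇑A.D.f)^[(A.Ss.getD (A.O.orb i : Fin A.o).val []).idxOf i.val] _ = _
  rw [hij]
  congr 2
  exact hnd.idxOf_getElem e he'

variable [Finite F]

/-- The automorphism with given parameters. -/
theorem exists_acts (H : OutHyp A) (σ : F ≃+* F) (c : ∀ j, (↥(FF A j))ˣ) :
    ∃ θ : MulAut ↥A.S.fix, NormTw A.S θ ∧ ActsTw θ σ c := by
  classical
  have hT := A.D.ok.valid
  set ψ := Aut.diagHom hT (nodeC c) * Aut.fieldFun hT σ with hψ
  have hψn : Aut.Norm ψ := (Aut.NS T F).mul_mem (Aut.diag_mem_NS hT _) (Aut.field_mem_NS hT σ)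
  have hψx : ∀ (i : Fin T.rank) (t : F),
      ψ (Aut.xG hT (T.simpF hT i) t) = Aut.xG hT (T.simpF hT i) ((nodeC c i : F) * σ t) ∧
      ψ (Aut.xG hT (T.negF (T.simpF hT i)) t) =
        Aut.xG hT (T.negF (T.simpF hT i)) (((nodeC c i)⁻¹ : Fˣ) * σ t) := by
    intro i t
    simp only [hψ, MulAut.mul_apply, Aut.fieldFun_x]
    exact Aut.diagHom_x hT _ i _
  have hfit : ∀ (j : Fin A.o) (t : ↥(FF A j)), A.Fit j (σ t) := fun j t => by
    show (⇑A.D.f)^[_] _ = _
    rw [← iterate_comm H.fcomm]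
    exact congrArg σ t.2
  have hp : ∀ (j : Fin A.o) (t : ↥(FF A j)),
      ∃ t', ψ (incl (xp A j t)) = incl (xp A j t') ∧ (t' : F) = ((c j : ↥(FF A j)) : F) * σ t := by
    intro j t
    refine ⟨(c j : ↥(FF A j)) * ⟨σ t, hfit j t⟩, Subtype.ext ?_, rfl⟩
    refine (gprod_map_hom (A := A) ψ.toMonoidHom (fun p => if hr : ∃ e < (A.L j).length, (A.L j).getD e 0 = p.1 then
      (p.1, (⇑A.D.f)^[hr.choose] ((c j : ↥(FF A j)) : F) * σ p.2) else p) (l := cycWord A.D.f (A.L j) (t : F))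
      (A.D.cycWord_lt (A.facts j.2).1 _) ?_).trans ?_
    · intro p hpm
      obtain ⟨e, he, rfl⟩ := List.mem_map.mp hpm
      have hr : ∃ e' < (A.L j).length, (A.L j).getD e' 0 = (A.L j).getD e 0 := ⟨e, List.mem_range.mp he, rfl⟩
      rw [dif_pos hr]
      obtain ⟨h1, h2⟩ := hr.choose_spec
      obtain ⟨i, ei, hi⟩ := nodeC_L c j h1
      rw [h2] at ei
      have e2 := (hψx i ((⇑A.D.f)^[e] (t : F))).1
      show (ψ (Aut.xG hT ⟨(A.L j).getD e 0, _⟩ _) : GL T.I F) = T.xU F _ _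
      rw [show (⟨(A.L j).getD e 0, _⟩ : Fin T.n) = T.simpF hT i from Fin.ext ei, e2, hi]
      show T.xU F (T.simple i) _ = _
      rw [← ei]
    · show _ = T.gprod (cycWord A.D.f (A.L j) (((c j : ↥(FF A j)) : F) * σ t))
      rw [cycWord, cycWord, List.map_map]
      refine congrArg T.gprod (List.map_congr_left fun e he => ?_)
      have hr : ∃ e' < (A.L j).length, (A.L j).getD e' 0 = (A.L j).getD e 0 := ⟨e, List.mem_range.mp he, rfl⟩
      simp only [Function.comp_apply]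
      rw [dif_pos hr]
      obtain ⟨h1, h2⟩ := hr.choose_spec
      generalize hr.choose = e' at h1 h2 ⊢
      have hee : e' = e := by
        have hnd : (A.L j).Nodup := (A.facts j.2).2.2.2.nodup_iff.mp
          ((List.Pairwise.filter _ List.pairwise_lt_range').imp fun h => ne_of_lt h)
        rw [List.getD_eq_getElem _ _ h1, List.getD_eq_getElem _ _ (List.mem_range.mp he)] at h2
        exact (hnd.getElem_inj_iff).mp h2
      rw [hee, A.iterate_mul, iterate_comm H.fcomm]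
  have hn : ∀ (j : Fin A.o) (t : ↥(FF A j)),
      ∃ t', ψ (incl (xn A j t)) = incl (xn A j t') ∧ (t' : F) = ((c j : ↥(FF A j)) : F)⁻¹ * σ t := by
    intro j t
    refine ⟨((c j : ↥(FF A j)))⁻¹ * ⟨σ t, hfit j t⟩, Subtype.ext ?_, rfl⟩
    refine (gprod_map_hom (A := A) ψ.toMonoidHom (fun p => if hr : ∃ e < (A.L j).length, T.neg ((A.L j).getD e 0) = p.1 then
      (p.1, ((⇑A.D.f)^[hr.choose] ((c j : ↥(FF A j)) : F))⁻¹ * σ p.2) else p)
      (l := cycWord A.D.f ((A.L j).map T.neg) (t : F)) (A.D.cycWord_lt (A.facts j.2).2.1 _) ?_).trans ?_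
    · intro p hpm
      obtain ⟨e, he, rfl⟩ := List.mem_map.mp hpm
      have he' : e < (A.L j).length := by simpa using List.mem_range.mp he
      have en : ((A.L j).map T.neg).getD e 0 = T.neg ((A.L j).getD e 0) := by
        rw [List.getD_eq_getElem _ _ (by simpa using he'), List.getElem_map, List.getD_eq_getElem _ _ he']
      have hr : ∃ e' < (A.L j).length, T.neg ((A.L j).getD e' 0) = ((A.L j).map T.neg).getD e 0 := ⟨e, he', en.symm⟩
      rw [dif_pos hr]
      obtain ⟨h1, h2⟩ := hr.choose_spec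
      obtain ⟨i, ei, hi⟩ := nodeC_L c j h1
      rw [ei] at h2
      have e2 := (hψx i ((⇑A.D.f)^[e] (t : F))).2
      show (ψ (Aut.xG hT ⟨((A.L j).map T.neg).getD e 0, _⟩ _) : GL T.I F) = T.xU F _ _
      rw [show (⟨((A.L j).map T.neg).getD e 0, _⟩ : Fin T.n) = T.negF (T.simpF hT i) from Fin.ext h2.symm, e2,
        Units.val_inv_eq_inv_val, hi]
      show T.xU F (T.neg (T.simple i)) _ = _
      rw [h2]
    · show _ = T.gprod (cycWord A.D.f ((A.L j).map T.neg) (((c j : ↥(FF A j)) : F)⁻¹ * σ t))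
      rw [cycWord, cycWord, List.map_map]
      refine congrArg T.gprod (List.map_congr_left fun e he => ?_)
      have he' : e < (A.L j).length := by simpa using List.mem_range.mp he
      have en : ((A.L j).map T.neg).getD e 0 = T.neg ((A.L j).getD e 0) := by
        rw [List.getD_eq_getElem _ _ (by simpa using he'), List.getElem_map, List.getD_eq_getElem _ _ he']
      have hr : ∃ e' < (A.L j).length, T.neg ((A.L j).getD e' 0) = ((A.L j).map T.neg).getD e 0 := ⟨e, he', en.symm⟩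
      simp only [Function.comp_apply]
      rw [dif_pos hr]
      obtain ⟨h1, h2⟩ := hr.choose_spec
      generalize hr.choose = e' at h1 h2 ⊢
      have hee : e' = e := by
        have hnd : (A.L j).Nodup := (A.facts j.2).2.2.2.nodup_iff.mp
          ((List.Pairwise.filter _ List.pairwise_lt_range').imp fun h => ne_of_lt h)
        have hb := (A.D.chkAb_facts (A.facts j.2).1).2
        have h3 : (A.L j).getD e' 0 = (A.L j).getD e 0 := by
          have := congrArg T.neg (h2.trans en)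
          rwa [neg_neg' (hb _ h1).1, neg_neg' (hb _ he').1] at this
        rw [List.getD_eq_getElem _ _ h1, List.getD_eq_getElem _ _ he'] at h3
        exact (hnd.getElem_inj_iff).mp h3
      rw [hee, A.iterate_mul, iterate_comm H.fcomm]
      have hinv : ∀ e, (⇑A.D.f)^[e] (((c j : ↥(FF A j)) : F))⁻¹ = ((⇑A.D.f)^[e] ((c j : ↥(FF A j)) : F))⁻¹ := by
        intro e
        induction e with
        | zero => rfl
        | succ e ih => rw [Function.iterate_succ_apply', Function.iterate_succ_apply', ih, map_inv₀]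
      rw [hinv]
  have hmaps : ∀ g : ↥A.S.fix, (ψ (incl g) : GL T.I F) ∈ A.S.fix := by
    have hle : A.G ≤ ((A.S.fix.comap (T.datum.group F).subtype).comap ψ.toMonoidHom).map
        (T.datum.group F).subtype := by
      refine (Subgroup.closure_le _).mpr ?_
      rintro g ⟨w, hw, hg⟩
      obtain ⟨j, hj, t, ht, hwj | hwj⟩ := A.hW w hw <;> subst hwj
      · refine ⟨incl (xp A ⟨j, hj⟩ ⟨t, ht⟩), ?_, ?_⟩
        · obtain ⟨t', e, -⟩ := hp ⟨j, hj⟩ ⟨t, ht⟩
          show (ψ _ : GL T.I F) ∈ A.S.fix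
          rw [e]; exact (xp A _ t').2
        · exact Units.ext ((gprod_wordMat A.D.ok.valid (A.D.cycWord_lt (A.facts hj).1 t)).symm.trans hg.symm)
      · refine ⟨incl (xn A ⟨j, hj⟩ ⟨t, ht⟩), ?_, ?_⟩
        · obtain ⟨t', e, -⟩ := hn ⟨j, hj⟩ ⟨t, ht⟩
          show (ψ _ : GL T.I F) ∈ A.S.fix
          rw [e]; exact (xn A _ t').2
        · exact Units.ext ((gprod_wordMat A.D.ok.valid (A.D.cycWord_lt (A.facts hj).2.1 t)).symm.trans hg.symm)
    intro g
    obtain ⟨y, hy, e⟩ := hle (H.gen.symm ▸ g.2 : (g : GL T.I F) ∈ A.G)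
    rw [show incl g = y from Subtype.ext e.symm]
    exact hy
  let θ₀ : ↥A.S.fix →* ↥A.S.fix :=
    (((T.datum.group F).subtype.comp ψ.toMonoidHom).comp (incl (A := A))).codRestrict _ hmaps
  have hinj : Function.Injective θ₀ := fun a b e => by
    have e' : (ψ (incl a) : GL T.I F) = ψ (incl b) := congrArg (fun x : ↥A.S.fix => (x : GL T.I F)) e
    exact Subtype.ext (congrArg (fun x : ↥(T.datum.group F) => (x : GL T.I F)) (ψ.injective (Subtype.ext e')))
  let θ : MulAut ↥A.S.fix := MulEquiv.ofBijective θ₀ (Finite.injective_iff_bijective.mp hinj)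
  refine ⟨θ, ⟨?_, ?_⟩, fun j t => ⟨?_, ?_⟩⟩
  · refine Subgroup.eq_of_le_of_card_ge ?_ (le_of_eq (Subgroup.card_map_of_injective θ.injective).symm)
    rintro _ ⟨y, hy, rfl⟩
    have h1 : ψ (incl y) ∈ Aut.UU T F := hψn.mapU.le ⟨incl y, hy, rfl⟩
    exact h1
  · refine Subgroup.eq_of_le_of_card_ge ?_ (le_of_eq (Subgroup.card_map_of_injective θ.injective).symm)
    rintro _ ⟨y, hy, rfl⟩
    have h1 : ψ (incl y) ∈ Aut.VV T F := hψn.mapV.le ⟨incl y, hy, rfl⟩
    exact h1
  · obtain ⟨t', e, ht'⟩ := hp j t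
    exact ⟨t', Subtype.ext (congrArg (fun x : ↥(T.datum.group F) => (x : GL T.I F)) e : _), ht'⟩
  · obtain ⟨t', e, ht'⟩ := hn j t
    exact ⟨t', Subtype.ext (congrArg (fun x : ↥(T.datum.group F) => (x : GL T.I F)) e : _), ht'⟩

/-- Every normalised automorphism has parameters. -/
theorem exists_form (H : OutHyp A) {θ : MulAut ↥A.S.fix} (hθ : NormTw A.S θ) :
    ∃ σ c, ActsTw θ σ c := by
  obtain ⟨π, hπ⟩ := exists_orbit_perm hθ
  have h1 : π = 1 := by
    refine H.perm π (fun j => ?_) fun j k _ => ⟨fun h s t => ?_, fun h s t => ?_⟩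
    · rw [← card_XP, ← card_XP, ← (hπ j).1, Subgroup.card_map_of_injective θ.injective]
    · obtain ⟨y, hy, ey⟩ := (hπ j).1.ge (xp_mem (π j) s)
      obtain ⟨z, hz, ez⟩ := (hπ k).1.ge (xp_mem (π k) t)
      obtain ⟨s', rfl⟩ := exists_xp hy
      obtain ⟨t', rfl⟩ := exists_xp hz
      rw [← ey, ← ez]
      exact (h s' t').map θ.toMonoidHom
    · obtain ⟨s', es⟩ := exists_xp ((hπ j).1.le ⟨_, xp_mem j s, rfl⟩)
      obtain ⟨t', et⟩ := exists_xp ((hπ k).1.le ⟨_, xp_mem k t, rfl⟩)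
      have : θ.toMonoidHom (xp A j s) * θ.toMonoidHom (xp A k t) =
          θ.toMonoidHom (xp A k t) * θ.toMonoidHom (xp A j s) := by
        rw [es, et]; exact (h s' t').eq
      rw [← map_mul, ← map_mul] at this
      exact θ.injective this
  subst h1
  obtain ⟨φ, c, hc, hcr⟩ := exists_field_parts H.sq hπ
  obtain ⟨σ, hσ⟩ := H.link φ hcr
  refine ⟨σ, c, fun j t => ⟨⟨_, (hc j t).1, by rw [Subfield.coe_mul, hσ]⟩, ⟨_, (hc j t).2, ?_⟩⟩⟩
  rw [Subfield.coe_mul, hσ, Units.val_inv_eq_inv_val, Subfield.coe_inv]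

omit [Finite F] in
theorem acts_unique (H : OutHyp A) {θ : MulAut ↥A.S.fix} {σ σ' : F ≃+* F} {c c' : ∀ j, (↥(FF A j))ˣ}
    (h : ActsTw θ σ c) (h' : ActsTw θ σ' c') : σ = σ' ∧ c = c' := by
  have key : ∀ j (t : ↥(FF A j)), ((c j : ↥(FF A j)) : F) * σ t = ((c' j : ↥(FF A j)) : F) * σ' t := by
    intro j t
    obtain ⟨t1, e1, v1⟩ := (h j t).1
    obtain ⟨t2, e2, v2⟩ := (h' j t).1
    rw [← v1, ← v2, xp_injective j (e1.symm.trans e2)]
  have hc : c = c' := funext fun j => Units.ext (Subtype.ext (by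
    have := key j 1
    rwa [Subfield.coe_one, map_one, map_one, mul_one, mul_one] at this))
  subst hc
  obtain ⟨j, hj⟩ := H.full
  refine ⟨RingEquiv.ext fun t => ?_, rfl⟩
  exact mul_left_cancel₀ (fun e => Units.ne_zero (c j) (Subtype.ext e)) (key j ⟨t, hj t⟩)

omit [Finite F] in
theorem acts_ext (H : OutHyp A) {θ θ' : MulAut ↥A.S.fix} {σ : F ≃+* F} {c : ∀ j, (↥(FF A j))ˣ}
    (h : ActsTw θ σ c) (h' : ActsTw θ' σ c) : θ = θ' := by
  refine MulEquiv.toMonoidHom_injective (tw_hom_ext H.gen _ _ fun j t => ⟨?_, ?_⟩)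
  · obtain ⟨t1, e1, v1⟩ := (h j t).1
    obtain ⟨t2, e2, v2⟩ := (h' j t).1
    obtain rfl : t1 = t2 := Subtype.ext (v1.trans v2.symm)
    exact e1.trans e2.symm
  · obtain ⟨t1, e1, v1⟩ := (h j t).2
    obtain ⟨t2, e2, v2⟩ := (h' j t).2
    obtain rfl : t1 = t2 := Subtype.ext (v1.trans v2.symm)
    exact e1.trans e2.symm

omit [Finite F] in
/-- The normalised automorphisms. -/
noncomputable def NS1 (A : AbSetup T F) : Subgroup (MulAut ↥A.S.fix) where
  carrier := {θ | NormTw A.S θ}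
  one_mem' := ⟨Subgroup.map_id _, Subgroup.map_id _⟩
  mul_mem' {a b} ha hb := by
    have e : ∀ H : Subgroup ↥A.S.fix, H.map (a * b).toMonoidHom = (H.map b.toMonoidHom).map a.toMonoidHom :=
      fun H => by rw [Subgroup.map_map]; rfl
    exact ⟨by rw [e, hb.mapU, ha.mapU], by rw [e, hb.mapV, ha.mapV]⟩
  inv_mem' {a} ha := NormTw.symm ha

omit [Finite F] in
/-- The projection to the outer automorphism group. -/
noncomputable def toOut (A : AbSetup T F) : ↥(NS1 A) →* Cfsg.Out ↥A.S.fix :=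
  (QuotientGroup.mk' _).comp (NS1 A).subtype

theorem toOut_surjective : Function.Surjective (toOut A) := by
  intro x
  obtain ⟨θ, rfl⟩ := QuotientGroup.mk'_surjective _ x
  obtain ⟨a, ha⟩ := exists_normTw (O := A.O) A.hV θ
  refine ⟨⟨_, ha⟩, ?_⟩
  show QuotientGroup.mk' _ (MulAut.conj a * θ) = _
  rw [map_mul, show QuotientGroup.mk' (Cfsg.Inn ↥A.S.fix) (MulAut.conj a) = 1 from
    (QuotientGroup.eq_one_iff _).mpr ⟨a, rfl⟩, one_mul]

/-- Inner normalised automorphisms. -/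
theorem card_ker_toOut :
    Nat.card (toOut A).ker = Nat.card ↥(T.datum.diagonalSubgroup F ⊓ A.S.fix) := by
  let i : ↥(T.datum.diagonalSubgroup F ⊓ A.S.fix) → ↥A.S.fix := fun h => ⟨h.1, h.2.2⟩
  have hi : ∀ h, NormTw A.S (MulAut.conj (i h)) := fun h =>
    ⟨Aut.map_conj_of_mem (B1_le_normalizer (Subgroup.mem_subgroupOf.mpr (Subgroup.mem_sup_right h.2.1))),
      Aut.map_conj_of_mem (diag_normalizes_V1 h.2.1)⟩
  refine (Nat.card_eq_of_bijective (fun h => (⟨⟨MulAut.conj (i h), hi h⟩,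
    (QuotientGroup.eq_one_iff _).mpr ⟨_, rfl⟩⟩ : (toOut A).ker)) ⟨fun a b e => ?_, fun θ => ?_⟩).symm
  · have e' : MulAut.conj (i a) = MulAut.conj (i b) := congrArg (fun x : (toOut A).ker => x.1.1) e
    have h1 : MulAut.conj (i a * (i b)⁻¹) = 1 := by rw [map_mul, map_inv, e', mul_inv_cancel]
    have h2 := A.hc ((i a * (i b)⁻¹ : ↥A.S.fix) : GL T.I F) (mul_mem a.2.1 (inv_mem b.2.1))
      (i a * (i b)⁻¹).2 fun u huf _ => by
        have := congrArg Subtype.val (DFunLike.congr_fun h1 (⟨u, huf⟩ : ↥A.S.fix))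
        rw [MulAut.conj_apply, MulAut.one_apply, Subgroup.coe_mul, Subgroup.coe_mul, Subgroup.coe_inv] at this
        exact mul_inv_eq_iff_eq_mul.mp this
    have hab : i a = i b := mul_inv_eq_one.mp (Subtype.ext h2)
    exact Subtype.ext (show (i a : GL T.I F) = i b from congrArg Subtype.val hab)
  · obtain ⟨x, hx⟩ := (QuotientGroup.eq_one_iff _).mp (show QuotientGroup.mk' _ θ.1.1 = 1 from θ.2)
    exact ⟨⟨x, mem_diag_of_normTw (O := A.O) A.hV (hx ▸ θ.1.2), x.2⟩, Subtype.ext (Subtype.ext hx)⟩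

theorem card_NS1 (H : OutHyp A) :
    Nat.card (NS1 A) = Nat.card (F ≃+* F) * ∏ j, (Nat.card (FF A j) - 1) := by
  choose g hgN hg using fun a : (F ≃+* F) × (∀ j, (↥(FF A j))ˣ) => exists_acts H a.1 a.2
  have hb : Function.Bijective (fun a => (⟨g a, hgN a⟩ : ↥(NS1 A))) := by
    refine ⟨fun a b e => ?_, fun θ => ?_⟩
    · have ha := hg a
      rw [show g a = g b from congrArg Subtype.val e] at ha
      obtain ⟨e1, e2⟩ := acts_unique H ha (hg b)
      exact Prod.ext e1 e2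
    · obtain ⟨σ, c, h⟩ := exists_form H θ.2
      exact ⟨(σ, c), Subtype.ext (acts_ext H (hg (σ, c)) h)⟩
  rw [← Nat.card_congr (Equiv.ofBijective _ hb), Nat.card_prod, Nat.card_pi]
  simp only [Nat.card_units]

/-- The order of the outer automorphism group, times that of the torus. -/
theorem card_out (H : OutHyp A) :
    Nat.card (Cfsg.Out ↥A.S.fix) * Nat.card ↥(T.datum.diagonalSubgroup F ⊓ A.S.fix) =
      Nat.card (F ≃+* F) * ∏ j, (Nat.card (FF A j) - 1) := by
  rw [← card_NS1 H, ← card_ker_toOut, Subgroup.card_eq_card_quotient_mul_card_subgroup (toOut A).ker,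
    Nat.card_congr (QuotientGroup.quotientKerEquivOfSurjective _ toOut_surjective).toEquiv]

end CfsgLib.KnownB.AutTw
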