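import Cfsg.Agent.Lib.KnownB.AutTw.Group
import Cfsg.Agent.Lib.Chevalley.Twist.InstD4
import Cfsg.Agent.Lib.Chevalley.Twist.InstE6
import Cfsg.Agent.Lib.KnownC.AutPSL.Outer

/-!
The orders of the outer automorphism groups of the groups of types ³D₄ and ²E₆.
-/

set_option autoImplicit false
set_option maxRecDepth 20000
set_option Elab.async false

namespace CfsgLib.KnownB.AutTw

open CfsgLib.Chevalley CfsgLib.Chevalley.Tbl

section General

variable {T : Tbl} {F : Type*} [Field F] {A : AbSetup T F}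

/-- Evaluation of the scalars from a list of exponents. -/
theorem PP_eval (j k : Fin A.o) (z : List ℤ)
    (h : (List.range (A.Ss.getD j []).length).map
      (fun e => T.ca ((A.Ss.getD j []).getD e 0) ((A.L k).getD 0 0)) = z) (a : F) :
    PP A j k a = ((List.range z.length).map fun e => ((⇑A.D.f)^[e] a) ^ z.getD e 0).prod := by
  subst h
  rw [PP, List.length_map, List.length_range]
  refine congrArg List.prod (List.map_congr_left fun e he => ?_)
  rw [List.getD_eq_getElem _ (0 : ℤ) (by simpa using List.mem_range.mp he)]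
  simp

/-- A link by an exponent `-1` makes two field parts agree. -/
theorem link_inv {φ : ∀ j, ↥(FF A j) ≃+* ↥(FF A j)}
    (hcr : ∀ (j k : Fin A.o) (a : ↥(FF A j)) (v : ↥(FF A k)), a ≠ 0 → (v : F) = PP A j k a →
      (φ k v : F) = PP A j k (φ j a))
    {j k : Fin A.o} (hP : ∀ a : F, PP A j k a = a⁻¹) (a : ↥(FF A j)) (ha : (a : F) ∈ FF A k) :
    (φ k ⟨a, ha⟩ : F) = φ j a := by
  by_cases h0 : a = 0
  · subst h0
    rw [show (⟨((0 : ↥(FF A j)) : F), ha⟩ : ↥(FF A k)) = 0 from Subtype.ext rfl, map_zero, map_zero]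
    rfl
  have e := hcr j k a ((⟨a, ha⟩ : ↥(FF A k))⁻¹) h0 (by rw [hP]; rfl)
  rw [hP, map_inv₀, Subfield.coe_inv] at e
  exact inv_injective e

/-- The field automorphism of a full orbit. -/
noncomputable def fullAut {j : Fin A.o} (hj : ∀ t : F, A.Fit j t) (φ : ↥(FF A j) ≃+* ↥(FF A j)) :
    F ≃+* F :=
  let e : ↥(FF A j) ≃+* F := RingEquiv.ofBijective (FF A j).subtype
    ⟨Subtype.val_injective, fun t => ⟨⟨t, hj t⟩, rfl⟩⟩
  (e.symm.trans φ).trans e

theorem fullAut_apply {j : Fin A.o} (hj : ∀ t : F, A.Fit j t) (φ : ↥(FF A j) ≃+* ↥(FF A j)) (t : F) :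
    fullAut hj φ t = (φ ⟨t, hj t⟩ : F) := by
  simp only [fullAut, RingEquiv.trans_apply]
  set e : ↥(FF A j) ≃+* F := RingEquiv.ofBijective (FF A j).subtype
    ⟨Subtype.val_injective, fun t => ⟨⟨t, hj t⟩, rfl⟩⟩
  rw [show e.symm t = ⟨t, hj t⟩ from e.injective ((e.apply_symm_apply t).trans rfl)]
  rfl

end General

variable {K : Type*} [Field K] [Finite K] {q : ℕ}

section D4

open CfsgLib.Chevalley.Twist.D4

variable (hq : IsPrimePow q) (hK : Nat.card K = q ^ 3)

theorem d4_ca : ∀ j k : Fin 2, (List.range (([[1], [0, 2, 3]] : List (List ℕ)).getD j []).length).map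
    (fun e => Data.D4.tbl.ca ((([[1], [0, 2, 3]] : List (List ℕ)).getD j []).getD e 0)
      ((Data.D4.tbl.simples (([[1], [0, 2, 3]] : List (List ℕ)).getD k [])).getD 0 0)) =
    ([[[2], [-1]], [[-1, -1, -1], [2, 0, 0]]].getD j.val []).getD k.val [] := by decide +kernel

theorem d4_card (j : Fin 2) : Nat.card (FF (setup hq hK) j) = q ^ (if j = 0 then 1 else 3) := by
  have h : Nat.card (FF (setup hq hK) j) = _ := hcard hq hK j j.2
  rw [h]
  congr 1
  exact match j with
  | 0 => rfl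
  | 1 => rfl

theorem d4_hyp : OutHyp (setup hq hK) where
  gen := G_eq hq hK
  sq j a := by
    rw [PP_eval j j _ (d4_ca j j) a]
    have hj : ∀ j : Fin 2, ([[[2], [-1]], [[-1, -1, -1], [2, 0, 0]]].getD j.val []).getD j.val [] =
      [(2 : ℤ)] ∨ ([[[2], [-1]], [[-1, -1, -1], [2, 0, 0]]].getD j.val []).getD j.val [] = [(2 : ℤ), 0, 0] := by
      decide
    rcases hj j with e | e <;> simp only [e] <;> simp [List.range_succ, sq, zpow_ofNat]
  perm π hcardπ _ := by
    have h0 : π (0 : Fin 2) = (0 : Fin 2) := by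
      by_contra hne
      have h1 : π (0 : Fin 2) = (1 : Fin 2) := by
        have : ∀ x : Fin 2, x ≠ 0 → x = 1 := by decide
        exact this _ hne
      have := hcardπ (0 : Fin 2)
      rw [h1, d4_card hq hK 1, d4_card hq hK 0] at this
      have h2 := Nat.pow_right_injective hq.two_le this
      simp at h2
    refine Equiv.ext fun (j : Fin 2) => ?_
    exact match j with
    | 0 => h0
    | 1 => by
      have : ∀ x : Fin 2, x ≠ 0 → x = 1 := by decide
      refine this _ fun e => ?_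
      have := π.injective (e.trans h0.symm)
      exact absurd (show (1 : Fin 2) = (0 : Fin 2) from this) (by decide)
  link φ hcr := by
    refine ⟨fullAut (A := setup hq hK) (j := (1 : Fin 2)) (fit1 hq hK) (φ (1 : Fin 2)), fun (j : Fin 2) t => ?_⟩
    refine Eq.trans ?_ (fullAut_apply _ _ _).symm
    exact match j, t with
    | 0, t => (link_inv hcr (j := (0 : Fin 2)) (k := (1 : Fin 2)) (fun a => by
        refine (PP_eval _ _ _ (d4_ca 0 1) a).trans ?_
        simp [List.range_succ]) t (fit1 hq hK _)).symm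
    | 1, t => rfl
  full := ⟨(1 : Fin 2), fit1 hq hK⟩
  fcomm σ t := by
    show σ (fq hq hK t) = fq hq hK (σ t)
    rw [fq_apply, fq_apply, map_pow]

theorem out_d4 [Fintype K] {p f : ℕ} [Fact p.Prime] [CharP K p] (hK' : Fintype.card K = p ^ (3 * f))
    (hq : IsPrimePow q) (hK : Nat.card K = q ^ 3) :
    Nat.card (Cfsg.Out ↥(setup hq hK).S.fix) = 3 * f := by
  have h := card_out (d4_hyp hq hK)
  have haut : Nat.card (K ≃+* K) = 3 * f := by
    obtain ⟨e⟩ := CfsgLib.KnownC.AutPSL.ringAut_cyclic (F := K) hK'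
    rw [Nat.card_congr e.toEquiv, Nat.card_congr Multiplicative.toAdd, Nat.card_zmod]
  have hprod : ∏ j : Fin (setup hq hK).o, (Nat.card (FF (setup hq hK) j) - 1) = (q - 1) * (q ^ 3 - 1) := by
    show ∏ j : Fin 2, (Nat.card (FF (setup hq hK) j) - 1) = _
    rw [Fin.prod_univ_two, d4_card hq hK 0, d4_card hq hK 1]
    simp
  rw [card_diag hq hK, haut, hprod] at h
  have h2 := hq.two_le
  have h3 : q ≤ q ^ 3 := Nat.le_self_pow (by norm_num) q
  exact Nat.eq_of_mul_eq_mul_right (Nat.mul_pos (by omega) (by omega)) h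

end D4

section E6

open CfsgLib.Chevalley.Twist.E6

variable (hq : IsPrimePow q) (hK : Nat.card K = q ^ 2)

/-- Exponents of the scalars between the orbits. -/
def e6exp : List (List (List ℤ)) :=
  [[[2], [-1], [0], [0]], [[-1], [2], [0], [-1]], [[0, 0], [0, 0], [2, 0], [-1, 0]],
    [[0, 0], [-1, -1], [-1, 0], [2, 0]]]

theorem e6_ca : ∀ j k : Fin 4, (List.range (orbs.getD j []).length).map
    (fun e => Data.E6.tbl.ca ((orbs.getD j []).getD e 0) ((Data.E6.tbl.simples (orbs.getD k [])).getD 0 0)) =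
    (e6exp.getD j.val []).getD k.val [] := by decide +kernel

theorem e6_card (j : Fin 4) : Nat.card (FF (setup hq hK) j) = q ^ (if j.val < 2 then 1 else 2) := by
  have h : Nat.card (FF (setup hq hK) j) = _ := hcard hq hK j j.2
  rw [h]
  congr 1
  exact match j with
  | 0 => rfl
  | 1 => rfl
  | 2 => rfl
  | 3 => rfl

theorem e6_noEdge : ∀ p ∈ ([(0, 2), (0, 3), (1, 2)] : List (Fin 4 × Fin 4)), ∀ a b : Fin 6,
    ([2, 0, 3, 1, 3, 2] : List ℕ).getD a.val 0 = p.1.val → ([2, 0, 3, 1, 3, 2] : List ℕ).getD b.val 0 = p.2.val →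
      a ≠ b ∧ Data.E6.tbl.sum? (Data.E6.tbl.simple a.val) (Data.E6.tbl.simple b.val) = none := by
  decide +kernel

theorem e6_commute {p : Fin 4 × Fin 4} (hp : p ∈ ([(0, 2), (0, 3), (1, 2)] : List (Fin 4 × Fin 4)))
    (s : ↥(FF (setup hq hK) p.1)) (t : ↥(FF (setup hq hK) p.2)) :
    Commute (xp (setup hq hK) p.1 s) (xp (setup hq hK) p.2 t) :=
  commute_XP (A := setup hq hK)
    (fun (a b : Fin 6) ha hb => e6_noEdge p hp a b (congrArg Fin.val ha) (congrArg Fin.val hb)) s t

theorem e6_not_commute :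
    ¬ ∀ s t, Commute (xp (setup hq hK) (1 : Fin 4) s) (xp (setup hq hK) (3 : Fin 4) t) := by
  refine not_commute_XP (A := setup hq hK) (r := (⟨39, by decide +kernel⟩ : Fin Data.E6.tbl.n))
    (show (1 : Fin 4) ≠ (3 : Fin 4) by decide) ?_ ?_ ?_
  · show (Data.E6.tbl.simples (orbs.getD 1 [])).length = 1
    rw [simples1]; rfl
  · show (Data.E6.tbl.simples (orbs.getD 1 [])).getD 0 0 = 39
    rw [simples1]; rfl
  · intro e
    have e1 : Data.E6.tbl.actWord (Data.E6.orbWords.getD 3 []) 39 = 39 :=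
      ((setup hq hK).D.orbits_wJ (setup hq hK).hO (3 : Fin 4) _).symm.trans (congrArg Fin.val e)
    revert e1
    decide +kernel

theorem e6_perm_one {π : Equiv.Perm (Fin 4)} (hsize : ∀ x, (π x).val < 2 ↔ x.val < 2)
    (hedge : ¬ (π 1, π 3) ∈ ([(0, 2), (0, 3), (1, 2)] : List (Fin 4 × Fin 4))) : π = 1 := by
  have key : ∀ b d : Fin 4, b.val < 2 → ¬ d.val < 2 →
      ¬ (b, d) ∈ ([(0, 2), (0, 3), (1, 2)] : List (Fin 4 × Fin 4)) → b = 1 ∧ d = 3 := by decide
  have k0 : ∀ a : Fin 4, a.val < 2 → a ≠ 1 → a = 0 := by decide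
  have k2 : ∀ c : Fin 4, ¬ c.val < 2 → c ≠ 3 → c = 2 := by decide
  obtain ⟨h1, h3⟩ := key _ _ ((hsize 1).mpr (by decide)) (fun h => absurd ((hsize 3).mp h) (by decide)) hedge
  have h0 : π 0 = 0 := k0 _ ((hsize 0).mpr (by decide))
    (fun e => absurd (π.injective (e.trans h1.symm)) (by decide))
  have h2 : π 2 = 2 := k2 _ (fun h => absurd ((hsize 2).mp h) (by decide))
    (fun e => absurd (π.injective (e.trans h3.symm)) (by decide))
  exact Equiv.ext fun x => match x with
    | 0 => h0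
    | 1 => h1
    | 2 => h2
    | 3 => h3

theorem e6_hyp : OutHyp (setup hq hK) where
  gen := G_eq hq hK
  sq j a := by
    rw [PP_eval j j _ (e6_ca j j) a]
    have hj : ∀ j : Fin 4, (e6exp.getD j.val []).getD j.val [] = [(2 : ℤ)] ∨
        (e6exp.getD j.val []).getD j.val [] = [(2 : ℤ), 0] := by
      decide
    rcases hj j with e | e <;> simp only [e] <;> simp [List.range_succ, sq, zpow_ofNat]
  perm π hcardπ hcomm := by
    refine e6_perm_one (π := π) (fun (x : Fin 4) => ?_) fun hmem => ?_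
    · have := hcardπ x
      rw [e6_card hq hK (π x), e6_card hq hK x] at this
      have h2 := Nat.pow_right_injective hq.two_le this
      split_ifs at h2 with h h' h'' <;> omega
    · exact e6_not_commute hq hK ((hcomm (1 : Fin 4) (3 : Fin 4) (show (1 : Fin 4) ≠ 3 by decide)).mpr
        (e6_commute hq hK hmem))
  link φ hcr := by
    have hf := fit_pair hq hK (j := 3) rfl
    refine ⟨fullAut (A := setup hq hK) (j := (3 : Fin 4)) hf (φ (3 : Fin 4)), fun (j : Fin 4) t => ?_⟩
    refine Eq.trans ?_ (fullAut_apply _ _ _).symm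
    have hP : ∀ p ∈ ([(0, 1), (1, 3), (2, 3)] : List (Fin 4 × Fin 4)), ∀ a : K,
        PP (setup hq hK) p.1 p.2 a = a⁻¹ := by
      intro p hp a
      simp only [List.mem_cons, List.not_mem_nil, or_false] at hp
      rcases hp with rfl | rfl | rfl <;>
        refine (PP_eval _ _ _ (e6_ca _ _) a).trans ?_ <;> simp [e6exp, List.range_succ]
    have l1 : ∀ (t : ↥(FF (setup hq hK) (1 : Fin 4))),
        (φ (3 : Fin 4) ⟨(t : K), hf _⟩ : K) = φ (1 : Fin 4) t := fun t =>
      link_inv hcr (hP (1, 3) (by simp)) t (hf _)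
    exact match j, t with
    | 0, t => ((l1 ⟨(t : K), t.2⟩).trans (link_inv hcr (hP (0, 1) (by simp)) t t.2)).symm
    | 1, t => (l1 t).symm
    | 2, t => (link_inv hcr (hP (2, 3) (by simp)) t (hf _)).symm
    | 3, t => rfl
  full := ⟨(3 : Fin 4), fit_pair hq hK rfl⟩
  fcomm σ t := by
    show σ (fq hq hK t) = fq hq hK (σ t)
    rw [fq_apply, fq_apply, map_pow]

theorem out_e6tw [Fintype K] {p f : ℕ} [Fact p.Prime] [CharP K p] (hK' : Fintype.card K = p ^ (2 * f))
    (hq : IsPrimePow q) (hK : Nat.card K = q ^ 2) :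
    Nat.card (Cfsg.Out ↥(setup hq hK).S.fix) = 2 * Nat.gcd 3 (q + 1) * f := by
  have h := card_out (e6_hyp hq hK)
  have hd := card_diag hq hK
  have haut : Nat.card (K ≃+* K) = 2 * f := by
    obtain ⟨e⟩ := CfsgLib.KnownC.AutPSL.ringAut_cyclic (F := K) hK'
    rw [Nat.card_congr e.toEquiv, Nat.card_congr Multiplicative.toAdd, Nat.card_zmod]
  have hprod : ∏ j : Fin (setup hq hK).o, (Nat.card (FF (setup hq hK) j) - 1) =
      (q - 1) ^ 2 * (q ^ 2 - 1) ^ 2 := by
    show ∏ j : Fin 4, (Nat.card (FF (setup hq hK) j) - 1) = _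
    rw [Fin.prod_univ_four, e6_card hq hK 0, e6_card hq hK 1, e6_card hq hK 2, e6_card hq hK 3]
    simp [sq, mul_assoc]
  rw [haut, hprod, ← hd] at h
  refine Nat.eq_of_mul_eq_mul_right Nat.card_pos (h.trans ?_)
  ring

end E6

end CfsgLib.KnownB.AutTw
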