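import Cfsg.Agent.Lib.KnownB.AutTw.Perm
import Cfsg.Agent.Lib.KnownB.Aut.Rank1

/-!
The permutations on the two signs agree; when sizes and commutation fix every orbit it is trivial.
-/

set_option autoImplicit false

namespace CfsgLib.KnownB.AutTw

open CfsgLib.Chevalley CfsgLib.Chevalley.Tbl CfsgLib.Chevalley.Tbl.Twist

variable {T : Tbl} {F : Type*} [Field F] {A : AbSetup T F}

/-- A fundamental root turned by an orbit belongs to it. -/
theorem orb_of_negSet {j : Fin A.o} {i : Fin T.rank}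
    (h : T.negSet (A.S.wJ A.O j) (T.simpF A.S.valid i).val) : A.O.orb i = j := by
  obtain ⟨_, hp, hn⟩ := h
  by_contra hne
  have := A.O.supp j (T.simpF A.S.valid i) hp hn i hne
  rw [co_simpF A.S.valid i i.2, if_pos rfl] at this
  exact one_ne_zero this

theorem mem_negSet_L {j : Fin A.o} {r : Fin T.n} :
    T.negSet (A.S.wJ A.O j) r.val ↔ r.val ∈ A.L j :=
  (A.D.negSet_iff A.hO j rfl r.val).trans (A.facts j.2).2.2.2.mem_iff

theorem head_simple (j : Fin A.o) : ∃ i : Fin T.rank, (A.L j).getD 0 0 = T.simple i ∧ A.O.orb i = j := by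
  obtain ⟨-, -, hi, -⟩ := A.facts j.2
  have h0 := length_pos j
  have h0' : 0 < (A.Ss.getD j []).length := by rwa [← A.length_L]
  have hlt := hi _ (List.getElem_mem (h := h0'))
  have e : (A.L j).getD 0 0 = T.simple (A.Ss.getD j [])[0] := by
    rw [List.getD_eq_getElem _ _ h0]
    simp [AbSetup.L, simples]
  refine ⟨⟨_, hlt⟩, e, orb_of_negSet (mem_negSet_L.mpr ?_)⟩
  show T.simple (A.Ss.getD j [])[0] ∈ A.L j
  rw [← e, List.getD_eq_getElem _ _ h0]
  exact List.getElem_mem h0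

/-- The roots of an orbit are fundamental roots of it. -/
theorem exists_node {j : Fin A.o} {r : ℕ} (h : r ∈ A.L j) :
    ∃ i : Fin T.rank, r = T.simple i ∧ A.O.orb i = j := by
  obtain ⟨i, hi, rfl⟩ := List.mem_map.mp h
  have hlt := (A.facts j.2).2.2.1 i hi
  exact ⟨⟨i, hlt⟩, rfl, orb_of_negSet (mem_negSet_L.mpr h)⟩

theorem longest_sq {w : Equiv.Perm (Fin T.n)} (hw : w ∈ A.S.W1)
    (hiff : ∀ s : Fin T.n, T.half ≤ s.val ↔ (w s).val < T.half) : w * w = 1 := by
  refine eq_one_of_pos A.S.valid (mul_mem hw.1 hw.1) fun i => ?_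
  rw [Equiv.Perm.mul_apply]
  by_contra h
  have h1 := (hiff _).mp (half_le_simpF A.S.valid i)
  have h2 := (hiff _).mpr (not_le.mp h)
  exact absurd h2 (not_le.mpr h1)

/-- The longest element carries the negative of an orbit onto an orbit. -/
theorem exists_opp {w0 : Equiv.Perm (Fin T.n)} (hw0 : w0 ∈ A.S.W1)
    (hiff : ∀ s : Fin T.n, T.half ≤ s.val ↔ (w0 s).val < T.half) (j : Fin A.o) :
    ∃ k : Fin A.o, (∀ r : Fin T.n, T.negSet (A.S.wJ A.O j) r.val →
        T.negSet (A.S.wJ A.O k) (w0 (T.negF r)).val) ∧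
      ∀ r : Fin T.n, T.negSet (A.S.wJ A.O k) r.val →
        T.negSet (A.S.wJ A.O j) (w0 (T.negF r)).val := by
  have key : ∀ j : Fin A.o, ∃ k : Fin A.o, ∀ r : Fin T.n, T.negSet (A.S.wJ A.O j) r.val →
      T.negSet (A.S.wJ A.O k) (w0 (T.negF r)).val := by
    intro j
    obtain ⟨i, hi, -⟩ := head_simple j
    obtain ⟨i', hi'⟩ := Aut.exists_simple_image A.S.valid hw0.1 hiff i
    refine ⟨A.O.orb i', fun r hr => ?_⟩
    obtain ⟨e, he, er⟩ := List.mem_iff_getElem.mp (mem_negSet_L.mp hr)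
    rw [← List.getD_eq_getElem _ 0 he] at er
    induction e generalizing r with
    | zero =>
      have : r = T.simpF A.S.valid i := Fin.ext (er.symm.trans hi)
      rw [this, hi']
      exact ⟨(T.simpF A.S.valid i').2, half_le_simpF A.S.valid i', A.O.neg _ i' rfl⟩
    | succ e ih =>
      obtain ⟨-, hfa⟩ := A.D.chkAb_facts (A.facts j.2).1
      have he' : e < (A.L j).length := by omega
      have hq := (hfa e he').1
      have hqmem : T.negSet (A.S.wJ A.O j) (⟨_, hq⟩ : Fin T.n).val :=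
        mem_negSet_L.mpr (show (A.L j).getD e 0 ∈ A.L j by
          rw [List.getD_eq_getElem _ _ he']; exact List.getElem_mem he')
      have hr' : r = A.S.ρ ⟨_, hq⟩ := Fin.ext (by
        rw [← er]
        show _ = A.D.M.ρ ((A.L j).getD e 0)
        rw [(hfa e he').2.1, Nat.mod_eq_of_lt he])
      have h2 := ih ⟨_, hq⟩ hqmem he' rfl
      rw [hr', ← A.S.negEq, ← A.S.W1_comm hw0]
      obtain ⟨hlt, hp, hn⟩ := h2
      refine ⟨(A.S.ρ _).2, (A.S.pos _).mpr hp, ?_⟩
      rw [show (⟨(A.S.ρ (w0 (T.negF ⟨_, hq⟩))).val, (A.S.ρ _).2⟩ : Fin T.n) =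
        A.S.ρ (w0 (T.negF ⟨_, hq⟩)) from rfl, ← A.S.W1_comm (A.S.wJ_mem A.O (A.O.orb i'))]
      by_contra hge
      exact absurd ((A.S.pos _).mp (not_lt.mp hge)) (not_le.mpr hn)
  obtain ⟨k, hk⟩ := key j
  obtain ⟨k', hk'⟩ := key k
  have hsq : ∀ r, w0 (T.negF (w0 (T.negF r))) = r := by
    intro r
    have h := congrArg (fun p : Equiv.Perm (Fin T.n) => p r) (longest_sq hw0 hiff)
    simp only [Equiv.Perm.mul_apply, Equiv.Perm.one_apply] at h
    rw [← WP_negF A.S.valid hw0.1, negF_negF]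
    exact h
  have hkk : k' = j := by
    obtain ⟨i, hi, hij⟩ := head_simple j
    have h1 : T.negSet (A.S.wJ A.O j) (T.simpF A.S.valid i).val :=
      mem_negSet_L.mpr (show T.simple i ∈ A.L j by
        rw [← hi, List.getD_eq_getElem _ _ (length_pos j)]; exact List.getElem_mem _)
    have h2 := hk' _ (hk _ h1)
    rw [hsq] at h2
    exact (orb_of_negSet h2).symm.trans hij
  exact ⟨k, hk, fun r hr => hkk ▸ hk' r hr⟩

/-- Positive and negative subgroups of different orbits commute. -/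
theorem commute_XP_XN {j k : Fin A.o} (h : j ≠ k) (s : ↥(FF A j)) (t : ↥(FF A k)) :
    Commute (xp A j s) (xn A k t) := by
  refine Subtype.ext ?_
  show Commute (T.gprod (cycWord A.D.f (A.L j) (s : F))) (T.gprod (cycWord A.D.f ((A.L k).map T.neg) (t : F)))
  refine Commute.list_prod_right _ _ fun x hx => (Commute.list_prod_right _ _ fun y hy => ?_).symm
  obtain ⟨p, hp, rfl⟩ := List.mem_map.mp hx
  obtain ⟨e, he, rfl⟩ := List.mem_map.mp hp
  obtain ⟨q, hq, rfl⟩ := List.mem_map.mp hy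
  obtain ⟨d, hd, rfl⟩ := List.mem_map.mp hq
  have he' : e < (A.L k).length := by simpa using List.mem_range.mp he
  have hd' : d < (A.L j).length := List.mem_range.mp hd
  simp only [List.getD_eq_getElem _ _ hd', List.getD_eq_getElem _ _ (show e < ((A.L k).map T.neg).length by
    simpa using he'), List.getElem_map]
  obtain ⟨a, ea, ha⟩ := exists_node (List.getElem_mem hd')
  obtain ⟨b, eb, hb⟩ := exists_node (List.getElem_mem he')
  have hab : a ≠ b := fun e0 => h (by rw [← ha, e0, hb])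
  have := congrArg Subtype.val
    (Aut.commute_simple_neg (F := F) A.D.ok.valid A.D.ok.comm hab ((⇑A.D.f)^[d] (s : F)) ((⇑A.D.f)^[e] (t : F))).eq
  rw [ea, eb]
  exact this.symm

variable [Finite F]

/-- Positive and negative subgroups of one orbit do not commute. -/
theorem not_commute_XP_XN (j : Fin A.o) : ¬ ∀ s t, Commute (xp A j s) (xn A j t) := by
  intro h
  have hv1 : (xn A j 1 : GL T.I F) ≠ 1 := fun e => xn_ne_one j one_ne_zero (Subtype.ext e)
  obtain ⟨a, haf, ha, n, hnf, hnN, hnm, c, hcf, hc, e⟩ :=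
    vJ_canonical (S := A.S) (O := A.O) j (xn A j 1).2 hv1 (A.neg_word_VJ j _)
  let aa : ↥A.S.fix := ⟨a, haf⟩
  let nn : ↥A.S.fix := ⟨n, hnf⟩
  let cc : ↥A.S.fix := ⟨c, hcf⟩
  obtain ⟨sa, hsa⟩ := exists_xp (j := j) (g := aa) (Subgroup.mem_subgroupOf.mpr ha)
  obtain ⟨sc, hsc⟩ := exists_xp (j := j) (g := cc) (Subgroup.mem_subgroupOf.mpr hc)
  have hn : nn = (xp A j sa)⁻¹ * xn A j 1 * (xp A j sc)⁻¹ := by
    rw [← hsa, ← hsc]
    refine Subtype.ext ?_
    show n = a⁻¹ * (xn A j 1 : GL T.I F) * c⁻¹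
    rw [e]; group
  have h1 : Commute nn (xp A j 1) := by
    rw [hn]
    have hh : ∀ s, Commute (xp A j s)⁻¹ (xp A j 1) := fun s => by
      show _ * _ = _ * _
      rw [xp_neg, xp_add, xp_add, add_comm]
    exact ((hh sa).mul_left (h 1 1).symm).mul_left (hh sc)
  have h2 : nn * xp A j 1 * nn⁻¹ ∈ XN A j :=
    (map_conj_XP_XN (n := nn) hnm).1.le ⟨_, xp_mem j 1, rfl⟩
  rw [h1.eq, mul_inv_cancel_right] at h2
  exact xp_ne_one j one_ne_zero
    (Subgroup.mem_bot.mp ((XP_inf_XN j j).le (Subgroup.mem_inf.mpr ⟨xp_mem j 1, h2⟩)))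

/-- The permutation of the orbits, common to both signs. -/
theorem exists_orbit_perm {θ : MulAut ↥A.S.fix} (h : NormTw A.S θ) :
    ∃ π : Equiv.Perm (Fin A.o), ∀ j,
      (XP A j).map θ.toMonoidHom = XP A (π j) ∧ (XN A j).map θ.toMonoidHom = XN A (π j) := by
  obtain ⟨π, hπ⟩ := exists_neg_perm h
  obtain ⟨n0, w0, hw0, hm0, -, hiff, hUV, hVU⟩ := exists_n1 (O := A.O) A.hV
  choose k hk1 hk2 using exists_opp hw0 hiff
  have hle : ∀ j k : Fin A.o, (∀ r : Fin T.n, T.negSet (A.S.wJ A.O j) r.val →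
      T.negSet (A.S.wJ A.O k) (w0 (T.negF r)).val) →
      (XN A j).map (MulAut.conj n0).toMonoidHom ≤ XP A k := by
    rintro j k hjk _ ⟨y, hy, rfl⟩
    refine Subgroup.mem_subgroupOf.mpr (conj_mem_rootGen A.S.valid hm0 (fun s ⟨_, hs, hs'⟩ => ?_)
      (Subgroup.mem_subgroupOf.mp hy))
    have hs2 : T.negSet (A.S.wJ A.O j) (T.negF s).val := ⟨(T.negF s).2, le_negF hs, by
      rw [show (⟨(T.negF s).val, (T.negF s).2⟩ : Fin T.n) = T.negF s from rfl,
        WP_negF A.S.valid (A.S.wJ_mem A.O j).1]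
      exact negF_lt hs'⟩
    have := hjk _ hs2
    rwa [negF_negF] at this
  have hk : ∀ j, (XN A j).map (MulAut.conj n0).toMonoidHom = XP A (k j) := by
    intro j
    refine Subgroup.eq_of_le_of_card_ge (hle _ _ (hk1 j)) ?_
    have := Subgroup.card_le_of_le (hle _ _ (hk2 j))
    rw [Subgroup.card_map_of_injective (MulAut.conj n0).injective, card_XN, card_XP] at this
    rw [Subgroup.card_map_of_injective (MulAut.conj n0).injective, card_XN, card_XP]
    exact this
  set θ₃ : MulAut ↥A.S.fix := MulAut.conj n0⁻¹ * θ * MulAut.conj n0 with hθ₃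
  have hcomp : ∀ H : Subgroup ↥A.S.fix, H.map θ₃.toMonoidHom =
      ((H.map (MulAut.conj n0).toMonoidHom).map θ.toMonoidHom).map (MulAut.conj n0⁻¹).toMonoidHom := by
    intro H
    rw [Subgroup.map_map, Subgroup.map_map]
    rfl
  have hback : ∀ H K : Subgroup ↥A.S.fix, H.map (MulAut.conj n0).toMonoidHom = K →
      K.map (MulAut.conj n0⁻¹).toMonoidHom = H := by
    rintro H _ rfl
    rw [← Aut.map_conj_mul, inv_mul_cancel, map_one]
    exact Subgroup.map_id _
  have hN3 : NormTw A.S θ₃ :=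
    ⟨by rw [hcomp, hUV, h.mapV, hback _ _ hUV], by rw [hcomp, hVU, h.mapU, hback _ _ hVU]⟩
  obtain ⟨π₃, hπ₃⟩ := exists_neg_perm hN3
  have hkinj : Function.Injective k := fun a b e => by
    have h2 : XN A a = XN A b := Subgroup.map_injective (MulAut.conj n0).injective
      ((hk a).trans ((congrArg (XP A) e).trans (hk b).symm))
    by_contra hne
    exact not_commute_XP_XN a fun s t => by
      obtain ⟨u, hu⟩ := exists_xn (h2.le (xn_mem a t))
      rw [hu]; exact commute_XP_XN hne s u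
  obtain hksur := (Finite.injective_iff_surjective.mp hkinj)
  have hpos : ∀ j, ∃ j', (XP A j).map θ.toMonoidHom = XP A j' := by
    intro j
    obtain ⟨i, rfl⟩ := hksur j
    refine ⟨k (π₃ i), ?_⟩
    have e := congrArg (Subgroup.map (MulAut.conj n0).toMonoidHom) (hπ₃ i)
    rw [hcomp, ← Aut.map_conj_mul, mul_inv_cancel, map_one, hk, hk] at e
    rw [← e]
    exact (Subgroup.map_id _).symm
  choose π' hπ' using hpos
  refine ⟨π, fun j => ⟨?_, hπ j⟩⟩
  suffices π' j = π j by rw [hπ' j, this]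
  by_contra hne
  obtain ⟨b, hb⟩ := π.surjective (π' j)
  have hjb : j ≠ b := fun e => hne (by rw [← hb, e])
  refine not_commute_XP_XN (π' j) fun s t => ?_
  obtain ⟨y, hy, ey⟩ := (hπ' j).ge (xp_mem (π' j) s)
  obtain ⟨z, hz, ez⟩ := (hπ b).ge (show xn A (π' j) t ∈ XN A (π b) by rw [hb]; exact xn_mem (π' j) t)
  obtain ⟨t1, rfl⟩ := exists_xp hy
  obtain ⟨u1, rfl⟩ := exists_xn hz
  rw [← ey, ← ez]
  exact (commute_XP_XN hjb t1 u1).map θ.toMonoidHom

omit [Finite F] in
/-- Orbits with pairwise commuting fundamental roots give commuting subgroups. -/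
theorem commute_XP {j k : Fin A.o}
    (h : ∀ a b : Fin T.rank, A.O.orb a = j → A.O.orb b = k →
      a ≠ b ∧ T.sum? (T.simple a) (T.simple b) = none)
    (s : ↥(FF A j)) (t : ↥(FF A k)) : Commute (xp A j s) (xp A k t) := by
  refine Subtype.ext ?_
  show Commute (T.gprod (cycWord A.D.f (A.L j) (s : F))) (T.gprod (cycWord A.D.f (A.L k) (t : F)))
  refine Commute.list_prod_right _ _ fun x hx => (Commute.list_prod_right _ _ fun y hy => ?_).symm
  obtain ⟨p, hp, rfl⟩ := List.mem_map.mp hx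
  obtain ⟨e, he, rfl⟩ := List.mem_map.mp hp
  obtain ⟨q, hq, rfl⟩ := List.mem_map.mp hy
  obtain ⟨d, hd, rfl⟩ := List.mem_map.mp hq
  have he' : e < (A.L k).length := List.mem_range.mp he
  have hd' : d < (A.L j).length := List.mem_range.mp hd
  simp only [List.getD_eq_getElem _ _ hd', List.getD_eq_getElem _ _ he']
  obtain ⟨a, ea, ha⟩ := exists_node (List.getElem_mem hd')
  obtain ⟨b, eb, hb⟩ := exists_node (List.getElem_mem he')
  obtain ⟨hab, hs⟩ := h a b ha hb
  have := congrArg Subtype.val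
    (Aut.commute_simple (F := F) A.D.ok.valid A.D.ok.comm hab hs ((⇑A.D.f)^[d] (s : F)) ((⇑A.D.f)^[e] (t : F))).eq
  rw [ea, eb]
  exact this.symm

omit [Finite F] in
/-- An orbit moving the root of a single-root orbit does not commute with it. -/
theorem not_commute_XP {j k : Fin A.o} (hne : j ≠ k) (hl : (A.L j).length = 1) {r : Fin T.n}
    (hr : (A.L j).getD 0 0 = r.val) (hmv : A.S.wJ A.O k r ≠ r) :
    ¬ ∀ s t, Commute (xp A j s) (xp A k t) := by
  intro h
  have hx : ∀ u : ↥(FF A j), (xp A j u : GL T.I F) = T.xU F r u := fun u => by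
    show T.gprod (cycWord A.D.f (A.L j) (u : F)) = _
    rw [cycWord, hl]
    simp only [List.range_one, List.map_cons, List.map_nil, gprod, List.prod_singleton, Function.iterate_zero, id, hr]
  have h1 : Commute (xp A j 1) (nJ k 1) :=
    ((h 1 1).mul_right (commute_XP_XN hne 1 _)).mul_right (h 1 1)
  have h2 : Commute (T.xU F r (1 : F)) (nJ k (1 : ↥(FF A k)) : GL T.I F) := by
    have := congrArg Subtype.val h1.eq
    rw [Subgroup.coe_mul, Subgroup.coe_mul, hx] at this
    exact this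
  obtain ⟨c, hc⟩ := (nJ_mono k (one_ne_zero (α := ↥(FF A k)))).conj r
  have e := (hc 1).1
  rw [← h2.eq] at e
  exact hmv (xU_root_eq A.D.ok.valid A.D.ok.comm one_ne_zero (mul_right_cancel e)).symm

end CfsgLib.KnownB.AutTw
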