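import Cfsg.Agent.Lib.KnownB.AutTw.Base
import Cfsg.Agent.Lib.Chevalley.Twist.AbPerfect

/-!
The fixed parts of the subgroups of one orbit and their coordinates.
-/

set_option autoImplicit false

namespace CfsgLib.KnownB.AutTw

open CfsgLib.Chevalley CfsgLib.Chevalley.Tbl CfsgLib.Chevalley.Tbl.Twist

variable {T : Tbl} {F : Type*} [Field F] (A : AbSetup T F)

/-- The parameter field of an orbit. -/
def FF (j : Fin A.o) : Subfield F where
  carrier := {t | A.Fit j t}
  mul_mem' h h' := A.fit_mul h h'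
  one_mem' := A.fit_one j
  add_mem' h h' := A.fit_add h h'
  zero_mem' := Function.iterate_fixed (map_zero A.D.f) _
  neg_mem' h := A.fit_neg h
  inv_mem' _ h := A.fit_inv h

/-- The positive word of an orbit. -/
noncomputable def xp (j : Fin A.o) (t : ↥(FF A j)) : ↥A.S.fix := ⟨_, A.pos_fix j.2 t.2⟩

/-- The negative word of an orbit. -/
noncomputable def xn (j : Fin A.o) (t : ↥(FF A j)) : ↥A.S.fix := ⟨_, A.neg_fix j.2 t.2⟩

/-- The fixed part of the positive subgroup of an orbit. -/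
noncomputable abbrev XP (j : Fin A.o) : Subgroup ↥A.S.fix :=
  (T.rootGen F (T.negSet (A.S.wJ A.O j))).subgroupOf A.S.fix

/-- The fixed part of the negative subgroup of an orbit. -/
noncomputable abbrev XN (j : Fin A.o) : Subgroup ↥A.S.fix :=
  (T.rootGen F (fun r => ∃ h : r < T.n, r < T.half ∧ T.half ≤ (A.S.wJ A.O j ⟨r, h⟩).val)).subgroupOf A.S.fix

variable {A}

theorem XP_le_U1 (j : Fin A.o) : XP A j ≤ U1 A.S := fun _ hg =>
  mem_U1.mpr (rootGen_mono (fun r _ ⟨_, h, _⟩ => h) (Subgroup.mem_subgroupOf.mp hg))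

theorem XN_le_V1 (j : Fin A.o) : XN A j ≤ V1 A.S := fun _ hg =>
  mem_V1.mpr (rootGen_mono (fun r _ ⟨_, h, _⟩ => h) (Subgroup.mem_subgroupOf.mp hg))

theorem XP_inf_XN (j k : Fin A.o) : XP A j ⊓ XN A k = ⊥ :=
  eq_bot_iff.mpr ((inf_le_inf (XP_le_U1 j) (XN_le_V1 k)).trans U1_inf_V1.le)

theorem xn_mem (j : Fin A.o) (t : ↥(FF A j)) : xn A j t ∈ XN A j :=
  Subgroup.mem_subgroupOf.mpr (A.neg_word_VJ j t)

theorem xp_mem (j : Fin A.o) (t : ↥(FF A j)) : xp A j t ∈ XP A j := by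
  obtain ⟨-, -, -, hperm⟩ := A.facts j.2
  refine Subgroup.mem_subgroupOf.mpr (A.D.word_mem_negSet A.hO j rfl fun p hp => ?_)
  obtain ⟨e, he, rfl⟩ := List.mem_map.mp hp
  exact hperm.mem_iff.mpr (by
    rw [List.getD_eq_getElem _ _ (List.mem_range.mp he)]; exact List.getElem_mem _)

theorem exists_xp {j : Fin A.o} {g : ↥A.S.fix} (hg : g ∈ XP A j) : ∃ t, g = xp A j t := by
  obtain ⟨t, ht, e⟩ := A.exists_word j (Subgroup.mem_inf.mpr ⟨g.2, Subgroup.mem_subgroupOf.mp hg⟩)
  exact ⟨⟨t, ht⟩, Subtype.ext e⟩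

theorem xp_add (j : Fin A.o) (s t : ↥(FF A j)) : xp A j s * xp A j t = xp A j (s + t) :=
  Subtype.ext (A.word_add j.2 s t)

theorem word_add_of {L : List ℕ} (hL : T.chkAb A.D.M L = true) (s t : F) :
    T.gprod (cycWord A.D.f L s) * T.gprod (cycWord A.D.f L t) = T.gprod (cycWord A.D.f L (s + t)) := by
  obtain ⟨-, hfa⟩ := A.D.chkAb_facts hL
  rw [gprod, gprod, gprod, cycWord, cycWord, cycWord, List.map_map, List.map_map, List.map_map,
    list_prod_mul_of_commute]
  rotate_left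
  · exact List.nodup_range
  · exact fun i hi k hk _ => A.D.ab_commute hL (List.mem_range.mp hi) (List.mem_range.mp hk) _ _
  refine congrArg List.prod (List.map_congr_left fun e he => ?_)
  simp only [Function.comp_apply]
  rw [xU_add A.D.ok.valid (hfa e (List.mem_range.mp he)).1, A.iterate_add]

theorem xn_add (j : Fin A.o) (s t : ↥(FF A j)) : xn A j s * xn A j t = xn A j (s + t) :=
  Subtype.ext (word_add_of (A.facts j.2).2.1 s t)

theorem xp_zero (j : Fin A.o) : xp A j 0 = 1 := by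
  have := xp_add j (0 : ↥(FF A j)) 0
  rw [add_zero] at this
  exact mul_eq_left.mp this

theorem xn_zero (j : Fin A.o) : xn A j 0 = 1 := by
  have := xn_add j (0 : ↥(FF A j)) 0
  rw [add_zero] at this
  exact mul_eq_left.mp this

theorem xp_neg (j : Fin A.o) (t : ↥(FF A j)) : (xp A j t)⁻¹ = xp A j (-t) :=
  inv_eq_of_mul_eq_one_right (by rw [xp_add, add_neg_cancel, xp_zero])

theorem xn_neg (j : Fin A.o) (t : ↥(FF A j)) : (xn A j t)⁻¹ = xn A j (-t) :=
  inv_eq_of_mul_eq_one_right (by rw [xn_add, add_neg_cancel, xn_zero])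

theorem xn_injective (j : Fin A.o) : Function.Injective (xn A j) := by
  intro s t h
  by_contra hne
  have h1 : xn A j (s - t) = 1 := by rw [sub_eq_add_neg, ← xn_add, ← xn_neg, h, mul_inv_cancel]
  exact A.neg_word_ne_one j.2 (t := ((s - t : ↥(FF A j)) : F))
    (fun e => hne (sub_eq_zero.mp (Subtype.ext e))) (congrArg Subtype.val h1)

/-- Coefficients of products along an orbit are unique. -/
theorem word_inj (j : Fin A.o) {g g' : ℕ → F}
    (h : T.gprod ((List.range (A.L j).length).map fun e => ((A.L j).getD e 0, g e)) =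
      T.gprod ((List.range (A.L j).length).map fun e => ((A.L j).getD e 0, g' e)))
    {e : ℕ} (he : e < (A.L j).length) : g e = g' e := by
  obtain ⟨hab, -, -, hperm⟩ := A.facts j.2
  have hnd : (A.L j).Nodup := hperm.nodup_iff.mp
    ((List.Pairwise.filter _ List.pairwise_lt_range').imp fun h => ne_of_lt h)
  have conv : ∀ g : ℕ → F, T.gprod ((List.range (A.L j).length).map fun e => ((A.L j).getD e 0, g e)) =
      T.gprod ((T.negList (A.words.getD j [])).map fun r => (r, g ((A.L j).idxOf r))) := by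
    intro g
    have e3 : (List.range (A.L j).length).map (fun e => ((A.L j).getD e 0, g e)) =
        (A.L j).map fun r => (r, g ((A.L j).idxOf r)) := by
      apply List.ext_getElem (by simp)
      intro k h1 h2
      simp only [List.length_map, List.length_range] at h1
      simp only [List.getElem_map, List.getElem_range, List.getD_eq_getElem _ _ h1, hnd.idxOf_getElem k h1]
    rw [e3, gprod, gprod]
    refine List.Perm.prod_eq' ((hperm.symm.map _).map _) ?_
    refine List.pairwise_of_forall_mem_list fun a ha b hb => ?_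
    simp only [List.mem_map] at ha hb
    obtain ⟨_, ⟨r, hr, rfl⟩, rfl⟩ := ha
    obtain ⟨_, ⟨r', hr', rfl⟩, rfl⟩ := hb
    obtain ⟨k, hk, rfl⟩ := List.mem_iff_getElem.mp hr
    obtain ⟨k', hk', rfl⟩ := List.mem_iff_getElem.mp hr'
    have := A.D.ab_commute hab hk hk' (g ((A.L j).idxOf (A.L j)[k])) (g ((A.L j).idxOf (A.L j)[k']))
    rwa [List.getD_eq_getElem _ _ hk, List.getD_eq_getElem _ _ hk'] at this
  rw [conv, conv] at h
  have hb : ∀ r ∈ T.negList (A.words.getD j []), T.half ≤ r ∧ r < T.n := fun r hr => by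
    obtain ⟨hr', h1, -⟩ := (A.D.negSet_iff A.hO j rfl r).mpr hr
    exact ⟨h1, hr'⟩
  have := gprod_inj A.D.ok.valid A.D.ok.comm (List.Pairwise.filter _ List.pairwise_lt_range') hb _ _ h
    (A.L j)[e] (hperm.mem_iff.mpr (List.getElem_mem he))
  simpa only [hnd.idxOf_getElem e he] using this

theorem length_pos (j : Fin A.o) : 0 < (A.L j).length := (A.D.chkAb_facts (A.facts j.2).1).1

theorem xp_injective (j : Fin A.o) : Function.Injective (xp A j) := fun s t h =>
  Subtype.ext (word_inj j (g := fun e => (⇑A.D.f)^[e] (s : F)) (g' := fun e => (⇑A.D.f)^[e] (t : F))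
    (congrArg Subtype.val h) (length_pos j))

theorem xp_ne_one (j : Fin A.o) {t : ↥(FF A j)} (ht : t ≠ 0) : xp A j t ≠ 1 := fun h =>
  ht (xp_injective j (h.trans (xp_zero j).symm))

theorem xn_ne_one (j : Fin A.o) {t : ↥(FF A j)} (ht : t ≠ 0) : xn A j t ≠ 1 := fun h =>
  ht (xn_injective j (h.trans (xn_zero j).symm))

theorem wJ_wJ' (j : Fin A.o) (r : Fin T.n) : A.S.wJ A.O j (A.S.wJ A.O j r) = r := A.S.wJ_wJ A.O j r

variable [Finite F]

/-- A monomial element of an orbit exchanges the two subgroups. -/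
theorem map_conj_XP_XN {j : Fin A.o} {n : ↥A.S.fix} (hm : T.Mono (n : GL T.I F) (A.S.wJ A.O j)) :
    (XP A j).map (MulAut.conj n).toMonoidHom = XN A j ∧
      (XN A j).map (MulAut.conj n).toMonoidHom = XP A j := by
  classical
  have hT := A.D.ok.valid
  have h1 : (XP A j).map (MulAut.conj n).toMonoidHom ≤ XN A j := by
    rintro _ ⟨y, hy, rfl⟩
    refine Subgroup.mem_subgroupOf.mpr (conj_mem_rootGen hT hm (fun r ⟨_, hr, hr'⟩ => ?_)
      (Subgroup.mem_subgroupOf.mp hy))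
    exact ⟨(A.S.wJ A.O j r).2, hr', by
      rw [show (⟨(A.S.wJ A.O j r).val, (A.S.wJ A.O j r).2⟩ : Fin T.n) = A.S.wJ A.O j r from rfl, wJ_wJ']
      exact hr⟩
  have h2 : (XN A j).map (MulAut.conj n).toMonoidHom ≤ XP A j := by
    rintro _ ⟨y, hy, rfl⟩
    refine Subgroup.mem_subgroupOf.mpr (conj_mem_rootGen hT hm (fun r ⟨_, hr, hr'⟩ => ?_)
      (Subgroup.mem_subgroupOf.mp hy))
    exact ⟨(A.S.wJ A.O j r).2, hr', by
      rw [show (⟨(A.S.wJ A.O j r).val, (A.S.wJ A.O j r).2⟩ : Fin T.n) = A.S.wJ A.O j r from rfl, wJ_wJ']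
      exact hr⟩
  have c1 := Subgroup.card_le_of_le h1
  have c2 := Subgroup.card_le_of_le h2
  rw [Subgroup.card_map_of_injective (MulAut.conj n).injective] at c1 c2
  exact ⟨Subgroup.eq_of_le_of_card_ge h1 (by
      rw [Subgroup.card_map_of_injective (MulAut.conj n).injective]; exact c2),
    Subgroup.eq_of_le_of_card_ge h2 (by
      rw [Subgroup.card_map_of_injective (MulAut.conj n).injective]; exact c1)⟩

/-- The chosen representative, inside the fixed points. -/
noncomputable def repF (j : Fin A.o) : ↥A.S.fix := ⟨rep A.hV j, rep_fix A.hV j⟩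

omit [Finite F] in
theorem mono_repF (j : Fin A.o) : T.Mono (repF j : GL T.I F) (A.S.wJ A.O j) := rep_mono A.hV j

theorem card_XP (j : Fin A.o) : Nat.card (XP A j) = Nat.card (FF A j) :=
  (Nat.card_eq_of_bijective (fun t => (⟨xp A j t, xp_mem j t⟩ : ↥(XP A j)))
    ⟨fun _ _ h => xp_injective j (congrArg Subtype.val h), fun g => by
      obtain ⟨t, ht⟩ := exists_xp g.2
      exact ⟨t, Subtype.ext ht.symm⟩⟩).symm

theorem card_XN (j : Fin A.o) : Nat.card (XN A j) = Nat.card (FF A j) := by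
  rw [← card_XP, ← (map_conj_XP_XN (mono_repF j)).2, Subgroup.card_map_of_injective (MulAut.conj _).injective]

theorem exists_xn {j : Fin A.o} {g : ↥A.S.fix} (hg : g ∈ XN A j) : ∃ t, g = xn A j t := by
  have hb : Function.Bijective (fun t => (⟨xn A j t, xn_mem j t⟩ : ↥(XN A j))) :=
    (Nat.bijective_iff_injective_and_card _).mpr
      ⟨fun _ _ h => xn_injective j (congrArg Subtype.val h), (card_XN j).symm⟩
  obtain ⟨t, ht⟩ := hb.2 ⟨g, hg⟩
  exact ⟨t, (congrArg Subtype.val ht).symm⟩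

/-- `n_j(u)`. -/
noncomputable def nJ (j : Fin A.o) (u : ↥(FF A j)) : ↥A.S.fix :=
  xp A j u * xn A j (-u⁻¹) * xp A j u

omit [Finite F] in
theorem nJ_monomial (j : Fin A.o) {u : ↥(FF A j)} (hu : u ≠ 0) :
    (nJ j u : GL T.I F) ∈ T.datum.monomialSubgroup F := by
  have hu' : (u : F) ≠ 0 := fun h => hu (Subtype.ext h)
  show T.gprod (cycWord A.D.f (A.L j) (u : F)) *
    T.gprod (cycWord A.D.f ((A.L j).map T.neg) (-(u : F)⁻¹)) *
    T.gprod (cycWord A.D.f (A.L j) (u : F)) ∈ _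
  rw [A.D.cyc_nU (A.facts j.2).1]
  refine list_prod_mem fun x hx => ?_
  obtain ⟨e, he, rfl⟩ := List.mem_map.mp hx
  refine A.S.nU_mem_N ⟨_, ((A.D.chkAb_facts (A.facts j.2).1).2 e (List.mem_range.mp he)).1⟩ ?_
  exact fun h => hu' ((A.D.f.injective.iterate e) (h.trans (Function.iterate_fixed (map_zero _) e).symm))

omit [Finite F] in
theorem nJ_mono (j : Fin A.o) {u : ↥(FF A j)} (hu : u ≠ 0) :
    T.Mono (nJ j u : GL T.I F) (A.S.wJ A.O j) := by
  have hT := A.D.ok.valid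
  have hv1 : (xn A j (-u⁻¹) : GL T.I F) ≠ 1 := fun h =>
    xn_ne_one j (neg_ne_zero.mpr (inv_ne_zero hu)) (Subtype.ext h)
  obtain ⟨a, -, ha, n, -, hnN, hnm, c, -, hc, e⟩ :=
    vJ_canonical (S := A.S) (O := A.O) j (xn A j (-u⁻¹)).2 hv1 (A.neg_word_VJ j _)
  have hP : ∀ {x : GL T.I F}, x ∈ T.rootGen F (T.negSet (A.S.wJ A.O j)) → x ∈ T.datum.borelSubgroup F :=
    fun {x} hx => Subgroup.mem_sup_left ((posUnipotent_rootGen (F := F) hT).symm ▸
      rootGen_mono (fun r _ ⟨_, h, _⟩ => h) hx)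
  obtain ⟨w, -, hw⟩ := exists_mono hT (nJ_monomial j hu)
  have he : ((xp A j u : GL T.I F) * a) * n * (c * (xp A j u : GL T.I F)) = 1 * (nJ j u : GL T.I F) * 1 := by
    rw [one_mul, mul_one, nJ, Subgroup.coe_mul, Subgroup.coe_mul, e]
    simp only [mul_assoc]
  obtain ⟨hd, -⟩ := canonical_unique hT A.D.ok.comm
    (hP (mul_mem (Subgroup.mem_subgroupOf.mp (xp_mem j u)) ha)) (one_mem _) hnN (nJ_monomial j hu) hnm
    (mul_mem hc (Subgroup.mem_subgroupOf.mp (xp_mem j u))) (one_mem (T.rootGen F (T.negSet w))) he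
  have := hnm.mul (mono_diag hT hd)
  rwa [mul_inv_cancel_left, mul_one] at this

omit [Finite F] in
/-- Conjugation by a fixed diagonal element scales the coordinates. -/
theorem diag_conj_xp {χ : ℕ → Fˣ} (hχ : T.IsChar χ) (hd : T.dU χ ∈ T.datum.diagonalSubgroup F)
    (hf : T.dU χ ∈ A.S.fix) (j : Fin A.o) (t : ↥(FF A j)) :
    ∃ t', (⟨T.dU χ, hf⟩ : ↥A.S.fix) * xp A j t * (⟨T.dU χ, hf⟩ : ↥A.S.fix)⁻¹ = xp A j t' ∧
      (t' : F) = (χ ((A.L j).getD 0 0) : F) * t := by
  have hT := A.D.ok.valid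
  have hmem : (⟨T.dU χ, hf⟩ : ↥A.S.fix) * xp A j t * (⟨T.dU χ, hf⟩ : ↥A.S.fix)⁻¹ ∈ XP A j :=
    Subgroup.mem_subgroupOf.mpr ((Subgroup.mem_normalizer_iff.mp (diag_le_normalizer hT _ hd) _).mp
      (Subgroup.mem_subgroupOf.mp (xp_mem j t)))
  obtain ⟨t', ht'⟩ := exists_xp hmem
  refine ⟨t', ht', ?_⟩
  have e : T.dU χ * T.gprod (cycWord A.D.f (A.L j) (t : F)) * (T.dU χ)⁻¹ =
      T.gprod (cycWord A.D.f (A.L j) (t' : F)) := congrArg Subtype.val ht'
  rw [A.dU_cycWord hχ j.2, mul_inv_cancel_right] at e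
  exact (word_inj j (g' := fun e => (⇑A.D.f)^[e] (t' : F)) e (length_pos j)).symm

end CfsgLib.KnownB.AutTw
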